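import Cfsg.Agent.BenderTI.Setting
import Cfsg.Agent.Zassenhaus.AbelianKernel
import Cfsg.Agent.Zassenhaus.EvenSharp
import Cfsg.Agent.Zassenhaus.FieldPGL
import Cfsg.Prelude.Def_Transfer

/-!
# Bender's lemma when `|C_N(z)| > 2`: a Zassenhaus group on the cosets of the normaliser
-/

set_option autoImplicit false
set_option linter.style.haveILetI false

open Subgroup MulAction
open Cfsg.Agent.Fg24.CT (Inv2)

namespace Cfsg.Agent.BenderTI

universe u

variable {G : Type u} [Group G]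

theorem charP_of_card {K : Type} [Field K] [Fintype K] {p i : ℕ} (hp : p.Prime)
    (h : Fintype.card K = p ^ i) : CharP K p := by
  obtain ⟨r, hr⟩ := CharP.exists K
  obtain ⟨n, hr', hn⟩ := FiniteField.card K r
  have : r = p := (Nat.prime_dvd_prime_iff_eq hr' hp).mp
    (hr'.dvd_of_dvd_pow (n := i) (by rw [← h, hn]; exact dvd_pow_self r n.ne_zero))
  rwa [this] at hr

theorem coset_smul (N : Subgroup G) (g h : G) : g • (h : G ⧸ N) = ((g * h : G) : G ⧸ N) := rfl

theorem coset_eq_iff (N : Subgroup G) (g h : G) : (g : G ⧸ N) = (h : G ⧸ N) ↔ g⁻¹ * h ∈ N :=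
  QuotientGroup.eq

theorem coset_eq_one (N : Subgroup G) (g : G) : (g : G ⧸ N) = ((1 : G) : G ⧸ N) ↔ g ∈ N := by
  rw [coset_eq_iff, mul_one, inv_mem_iff]

variable [Finite G] {M : Subgroup G} {z : G} (H : Hyp M z) (hk : 2 < Nat.card (Kz M z))
include H hk

theorem Hyp.pz_eq {s g : G} (hsz : s * z = z * s) (hs : s ∉ normalizer (M : Set G))
    (hgz : g * z = z * g) (hg : g ∉ normalizer (M : Set G)) :
    s * g ∈ normalizer (M : Set G) := by
  by_contra hsg
  have hsgz : s * g * z = z * (s * g) := by rw [mul_assoc, hgz, ← mul_assoc, hsz, mul_assoc]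
  have hsg2 : g * s = s * g := by
    rw [← (H.Cz_invol hsgz hsg).inv_eq, mul_inv_rev, (H.Cz_invol hgz hg).inv_eq,
      (H.Cz_invol hsz hs).inv_eq]
  have hsq : ∀ c ∈ Kz M z, c * c = 1 := fun c hc => by
    have h1 := H.inverts_K hsgz hsg hc
    nth_rewrite 2 [← hsg2] at h1
    rw [show s * g * c * (g * s) = s * (g * c * g) * s by group, H.inverts_K hgz hg hc,
      H.inverts_K hsz hs (inv_mem hc), inv_inv] at h1
    exact eq_inv_iff_mul_eq_one.mp h1
  have h2 : Nat.card (Kz M z) ≤ 2 := by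
    have h3 : Function.Surjective
        (fun b : Bool => if b then (1 : Kz M z) else ⟨z, H.z_mem_K⟩) := by
      rintro ⟨c, hc⟩
      by_cases h : c = 1
      · exact ⟨true, Subtype.ext (by simp [h])⟩
      · exact ⟨false, Subtype.ext (by simp [H.unique_K hc ⟨h, hsq c hc⟩])⟩
    have := Nat.card_le_card_of_surjective _ h3
    rwa [show Nat.card Bool = 2 by simp] at this
  omega

variable {s : G} (hsz : s * z = z * s) (hs : s ∉ normalizer (M : Set G))
include hsz hs

theorem Hyp.s_inv : Inv2 s := H.Cz_invol hsz hs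

theorem Hyp.card_Pz : Nat.card (Pz M z) = Nat.card (Kz M z) := by
  have hs2 := (H.Cz_invol hsz hs).2
  refine (Nat.card_eq_of_bijective (fun c : Kz M z => (⟨s * c, by
    rw [mul_assoc, (mem_Kz.mp c.2).2, ← mul_assoc, hsz, mul_assoc],
    H.mul_not_mem hs (mem_Kz.mp c.2).1⟩ : Pz M z)) ⟨fun c d e => ?_, ?_⟩).symm
  · exact Subtype.ext (mul_left_cancel (congrArg Subtype.val e :))
  · rintro ⟨g, hgz, hg⟩
    exact ⟨⟨s * g, mem_Kz.mpr ⟨H.pz_eq hk hsz hs hgz hg,
      by rw [mul_assoc, hgz, ← mul_assoc, hsz, mul_assoc]⟩⟩,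
      Subtype.ext (by show s * (s * g) = g; rw [← mul_assoc, hs2, one_mul])⟩

theorem Hyp.index_N : (normalizer (M : Set G)).index = Nat.card M + 1 := by
  have h1 := (normalizer (M : Set G)).card_mul_index
  rw [H.card_N, H.card_G, H.card_Pz hk hsz hs] at h1
  have h2 : Nat.card M * Nat.card (Kz M z) * (normalizer (M : Set G)).index =
      Nat.card M * Nat.card (Kz M z) * (Nat.card M + 1) := by rw [h1]; ring
  exact Nat.eq_of_mul_eq_mul_left (Nat.mul_pos Nat.card_pos Nat.card_pos) h2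

theorem Hyp.b0_free {x : G} (hx : x ∈ M)
    (h : x • (s : G ⧸ normalizer (M : Set G)) = (s : G ⧸ normalizer (M : Set G))) : x = 1 := by
  have hs2 := (H.Cz_invol hsz hs)
  rw [coset_smul, coset_eq_iff, mul_inv_rev, hs2.inv_eq] at h
  have h' : s * x * s ∈ normalizer (M : Set G) := by
    have := inv_mem h
    rwa [mul_inv_rev, mul_inv_rev, inv_inv, hs2.inv_eq, ← mul_assoc] at this
  obtain ⟨y, hy, c, hc, e⟩ := H.decomp h'
  have hodd : Odd (orderOf (s * x * s)) := by
    have h1 : orderOf (s * x * s) = orderOf x := by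
      have := orderOf_injective (MulAut.conj s).toMonoidHom (MulAut.conj s).injective x
      rwa [MulEquiv.coe_toMonoidHom, MulAut.conj_apply, hs2.inv_eq] at this
    rw [h1]; exact H.odd_mem hx
  have h1 : (s * x * s)⁻¹ = z * (s * x * s) * z := by
    calc (s * x * s)⁻¹ = s * x⁻¹ * s := by rw [mul_inv_rev, mul_inv_rev, hs2.inv_eq]; group
      _ = (s * z) * x * (z * s) := by rw [← H.z_conj hx]; group
      _ = (z * s) * x * (z * s) := by rw [hsz]
      _ = z * (s * x * s) * z := by nth_rewrite 2 [← hsz]; group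
  rw [e, mul_inv_rev] at h1
  have h2 : z * (y * c) * z = y⁻¹ * c := by
    rw [← mul_assoc, H.z_move hy, mul_assoc y⁻¹, mul_assoc y⁻¹, mul_assoc z c z,
      (mem_Kz.mp hc).2, ← mul_assoc z z c, H.hz.2, one_mul]
  rw [h2, show c⁻¹ * y⁻¹ = (c⁻¹ * y⁻¹ * c) * c⁻¹ by group] at h1
  have hmem : c⁻¹ * y⁻¹ * c ∈ M := by
    have := H.conj_mem (inv_mem (mem_Kz.mp hc).1) (inv_mem hy)
    rwa [inv_inv] at this
  have h3 := (H.decomp_unique hmem (inv_mem hy) (inv_mem hc) hc h1).2
  by_cases hc1 : c = 1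
  · rw [hc1, mul_one] at e
    refine H.ti s hs x hx ?_
    rw [hs2.inv_eq, e]
    exact hy
  · exfalso
    have hcz := H.unique_K hc ⟨hc1, inv_eq_iff_mul_eq_one.mp h3⟩
    rw [hcz] at e
    have := H.mul_z hy
    rw [← e] at this
    exact this.1 (InvAb.odd_ne_inv2 hodd this.2)

/-- Every other point is in the orbit of `b₀ = sN` under `M`. -/
theorem Hyp.pt_decomp {p : G ⧸ normalizer (M : Set G)}
    (hp : p ≠ ((1 : G) : G ⧸ normalizer (M : Set G))) :
    ∃ y ∈ M, p = y • (s : G ⧸ normalizer (M : Set G)) := by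
  induction p using QuotientGroup.induction_on with | _ g => ?_
  rw [Ne, coset_eq_one] at hp
  obtain ⟨y, hy, g', hgz, hg', -, x, hx, e⟩ := H.main_dec hp
  refine ⟨y, hy, ?_⟩
  rw [coset_smul, coset_eq_iff, e]
  have h1 := mul_mem (le_normalizer (inv_mem hx)) (inv_mem (H.pz_eq hk hsz hs hgz hg'))
  rw [mul_inv_rev, (H.Cz_invol hsz hs).inv_eq] at h1
  rwa [show (y * g' * x)⁻¹ * (y * s) = x⁻¹ * (g'⁻¹ * s) by group]

theorem Hyp.K_fix {c : G} (hc : c ∈ Kz M z) :
    c • ((1 : G) : G ⧸ normalizer (M : Set G)) = ((1 : G) : G ⧸ normalizer (M : Set G)) ∧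
      c • (s : G ⧸ normalizer (M : Set G)) = (s : G ⧸ normalizer (M : Set G)) := by
  refine ⟨?_, ?_⟩
  · rw [coset_smul, mul_one, coset_eq_one]
    exact (mem_Kz.mp hc).1
  · rw [coset_smul, coset_eq_iff, mul_inv_rev, (H.Cz_invol hsz hs).inv_eq,
      H.inverts_K hsz hs (inv_mem hc), inv_inv]
    exact (mem_Kz.mp hc).1

theorem Hyp.mem_K_of_fix {g : G}
    (ha : g • ((1 : G) : G ⧸ normalizer (M : Set G)) = ((1 : G) : G ⧸ normalizer (M : Set G)))
    (hb : g • (s : G ⧸ normalizer (M : Set G)) = (s : G ⧸ normalizer (M : Set G))) :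
    g ∈ Kz M z := by
  rw [coset_smul, mul_one, coset_eq_one] at ha
  obtain ⟨x, hx, c, hc, e⟩ := H.decomp ha
  rw [e, mul_smul, (H.K_fix hk hsz hs hc).2] at hb
  rw [e, H.b0_free hk hsz hs hx hb, one_mul]
  exact hc

/-- `K` is semiregular on `M`. -/
theorem Hyp.semireg {c x : G} (hc : c ∈ Kz M z) (hx : x ∈ M) (hx1 : x ≠ 1) (h : Commute c x) :
    c = 1 := by
  have hs2 := H.Cz_invol hsz hs
  set a : G ⧸ normalizer (M : Set G) := ((1 : G) : G ⧸ normalizer (M : Set G)) with ha
  set b : G ⧸ normalizer (M : Set G) := (s : G ⧸ normalizer (M : Set G)) with hb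
  have hodd := H.odd_of_commute hx hx1 h
  obtain ⟨hca, hcb⟩ := H.K_fix hk hsz hs hc
  have hsa : s • a = b := by rw [ha, coset_smul, mul_one]
  have hsb : s • b = a := by rw [hb, coset_smul, hs2.2]
  have hab : a ≠ b := fun e => hs ((coset_eq_one _ s).mp e.symm)
  have hsc : s * c = c⁻¹ * s := by
    rw [← H.inverts_K hsz hs hc, mul_assoc (s * c), hs2.2, mul_one]
  have hcs : c * s = s * c⁻¹ := by
    calc c * s = (s * s) * c * s := by rw [hs2.2, one_mul]
      _ = s * (s * c * s) := by group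
      _ = s * c⁻¹ := by rw [H.inverts_K hsz hs hc]
  have hfix : ∀ {p : G ⧸ normalizer (M : Set G)}, p ≠ a → c • p = p →
      ∃ y ∈ M, Commute c y ∧ p = y • b := by
    intro p hp hcp
    obtain ⟨y, hy, rfl⟩ := H.pt_decomp hk hsz hs hp
    refine ⟨y, hy, ?_, rfl⟩
    have h1 : (c * y * c⁻¹) • b = y • b := by
      rw [mul_smul, mul_smul, inv_smul_eq_iff.mpr hcb.symm, hcp]
    have hm := H.conj_mem (mem_Kz.mp hc).1 hy
    have h2 : y⁻¹ * (c * y * c⁻¹) = 1 := H.b0_free hk hsz hs (mul_mem (inv_mem hy) hm) (by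
      rw [mul_smul, h1, inv_smul_smul])
    show c * y = y * c
    exact (mul_inv_eq_iff_eq_mul.mp (inv_mul_eq_one.mp h2).symm)
  have hconj : ∀ {y : G}, Commute c y → Commute c (s * y * s) := fun {y} hy => by
    show c * (s * y * s) = s * y * s * c
    calc c * (s * y * s) = (c * s) * y * s := by group
      _ = s * (c⁻¹ * y) * s := by rw [hcs]; group
      _ = s * y * (c⁻¹ * s) := by rw [hy.inv_left.eq]; group
      _ = s * y * s * c := by rw [← hsc]; group
  -- a point fixed by `c`, other than `a`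
  have hp1 : (s * x * s) • a ≠ a := by
    intro e
    rw [mul_smul, mul_smul, hsa, ← eq_inv_smul_iff, hs2.inv_eq, hsa] at e
    exact hx1 (H.b0_free hk hsz hs hx e)
  obtain ⟨y, hy, hcy, hp⟩ := hfix hp1 (by rw [← mul_smul, (hconj h).eq, mul_smul, hca])
  set g := y⁻¹ * (s * x * s) with hg
  have hga : g • a = b := by rw [hg, mul_smul, hp, inv_smul_smul]
  have hcg : Commute c g := (hcy.inv_right).mul_right (hconj h)
  have hq1 : s • g • b ≠ a := fun e => hab (by
    rw [← eq_inv_smul_iff, hs2.inv_eq, hsa] at e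
    exact (MulAction.injective g (e.trans hga.symm)).symm)
  have hq2 : c • s • g • b = s • g • b := by
    have h1 : Commute c⁻¹ g := hcg.inv_left
    rw [← mul_smul c, hcs, mul_smul, ← mul_smul c⁻¹, h1.eq, mul_smul g,
      inv_smul_eq_iff.mpr hcb.symm]
  obtain ⟨y', hy', hcy', hq⟩ := hfix hq1 hq2
  set g' := (s * y' * s)⁻¹ * g with hg'
  have hg'a : g' • a = b := by
    rw [hg', mul_smul _ g, hga, inv_smul_eq_iff, mul_smul, mul_smul, hsb,
      show y' • a = a by rw [ha, coset_smul, mul_one, coset_eq_one]; exact le_normalizer hy', hsa]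
  have hg'b : g' • b = a := by
    rw [hg', mul_smul _ g, inv_smul_eq_iff, mul_smul (s * y') s, mul_smul s y', hsa, ← hq, ← mul_smul s s, hs2.2,
      one_smul]
  have hcg' : Commute c g' := ((hconj hcy').inv_right).mul_right hcg
  have hK : s * g' ∈ Kz M z := H.mem_K_of_fix hk hsz hs
    (by rw [mul_smul, ← ha, hg'a, hsb]) (by rw [mul_smul, ← hb, hg'b, hsa])
  have h1 : s * g' * c = s * g' * c⁻¹ := by
    calc s * g' * c = c * (s * g') := H.comm_K hK hc
      _ = s * (c⁻¹ * g') := by rw [← mul_assoc, hcs]; group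
      _ = s * g' * c⁻¹ := by rw [hcg'.inv_left.eq]; group
  exact InvAb.odd_ne_inv2 hodd (eq_inv_iff_mul_eq_one.mp (mul_left_cancel h1))

theorem Hyp.zctx : Zassenhaus.ZCtx G (G ⧸ normalizer (M : Set G)) := by
  set a : G ⧸ normalizer (M : Set G) := ((1 : G) : G ⧸ normalizer (M : Set G)) with ha
  set b : G ⧸ normalizer (M : Set G) := (s : G ⧸ normalizer (M : Set G)) with hb
  have hMa : ∀ y ∈ M, y • a = a := fun y hy => by
    rw [ha, coset_smul, mul_one, coset_eq_one]; exact le_normalizer hy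
  have hto : ∀ {x y : G ⧸ normalizer (M : Set G)}, x ≠ y → ∃ g : G, g • x = a ∧ g • y = b := by
    intro x y hxy
    induction x using QuotientGroup.induction_on with | _ g => ?_
    have h1 : g⁻¹ • (g : G ⧸ normalizer (M : Set G)) = a := by
      rw [coset_smul, inv_mul_cancel]
    have h2 : g⁻¹ • y ≠ a := fun e => hxy (MulAction.injective g⁻¹ (h1.trans e.symm))
    obtain ⟨m, hm, e⟩ := H.pt_decomp hk hsz hs h2
    refine ⟨m⁻¹ * g⁻¹, ?_, ?_⟩
    · rw [mul_smul, h1, inv_smul_eq_iff, hMa m hm]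
    · rw [mul_smul, e, inv_smul_smul]
  refine ⟨fun {x y u v} hxy huv => ?_, ?_⟩
  · obtain ⟨g, hg1, hg2⟩ := hto hxy
    obtain ⟨g', hg1', hg2'⟩ := hto huv
    exact ⟨g'⁻¹ * g, by rw [mul_smul, hg1, inv_smul_eq_iff, hg1'],
      by rw [mul_smul, hg2, inv_smul_eq_iff, hg2']⟩
  · intro g x y w hxy hyw hxw hx hy hw
    obtain ⟨h, hhx, hhy⟩ := hto hxy
    set c := h * g * h⁻¹ with hc
    have hfx : ∀ {p : G ⧸ normalizer (M : Set G)}, g • p = p → c • h • p = h • p := fun {p} e => by
      rw [hc, mul_smul, mul_smul, inv_smul_smul, e]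
    have hca : c • a = a := hhx ▸ hfx hx
    have hcb : c • b = b := hhy ▸ hfx hy
    have hcK : c ∈ Kz M z := H.mem_K_of_fix hk hsz hs hca hcb
    have hwa : h • w ≠ a := fun e => hxw (MulAction.injective h (hhx.trans e.symm))
    obtain ⟨m, hm, e⟩ := H.pt_decomp hk hsz hs hwa
    have hm1 : m ≠ 1 := fun e' => hyw (MulAction.injective h
      (hhy.trans (show b = h • w by rw [e, e', one_smul])))
    have h1 : (c * m * c⁻¹) • b = m • b := by
      rw [mul_smul, mul_smul, inv_smul_eq_iff.mpr hcb.symm, ← e]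
      exact hfx hw
    have h2 : m⁻¹ * (c * m * c⁻¹) = 1 := H.b0_free hk hsz hs
      (mul_mem (inv_mem hm) (H.conj_mem (mem_Kz.mp hcK).1 hm)) (by
        rw [mul_smul, h1, inv_smul_smul])
    have h3 : Commute c m := mul_inv_eq_iff_eq_mul.mp (inv_mul_eq_one.mp h2).symm
    exact conj_eq_one_iff.mp (H.semireg hk hsz hs hcK hm hm1 h3)

theorem Hyp.kernel :
    Zassenhaus.IsKernel M ((1 : G) : G ⧸ normalizer (M : Set G)) := by
  refine ⟨fun u hu => by rw [coset_smul, mul_one, coset_eq_one]; exact le_normalizer hu,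
    fun g hg u hu => H.conj_mem (by rwa [coset_smul, mul_one, coset_eq_one] at hg) hu,
    fun p q hp hq => ?_⟩
  obtain ⟨u, hu, rfl⟩ := H.pt_decomp hk hsz hs hp
  obtain ⟨v, hv, rfl⟩ := H.pt_decomp hk hsz hs hq
  refine ⟨⟨v * u⁻¹, mul_mem hv (inv_mem hu)⟩, ?_, fun w hw => Subtype.ext ?_⟩
  · show (v * u⁻¹) • u • (s : G ⧸ normalizer (M : Set G)) = _
    rw [mul_smul, inv_smul_smul]
  · have h1 : v⁻¹ * ((w : G) * u) = 1 := H.b0_free hk hsz hs
      (mul_mem (inv_mem hv) (mul_mem w.2 hu)) (by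
        rw [mul_smul, mul_smul]
        rw [show (w : G) • u • (s : G ⧸ normalizer (M : Set G)) = v • _ from hw, inv_smul_smul])
    show (w : G) = v * u⁻¹
    rw [inv_mul_eq_one.mp h1, mul_inv_cancel_right]

theorem Hyp.twoPt_eq : Zassenhaus.twoPt G ((1 : G) : G ⧸ normalizer (M : Set G))
    (s : G ⧸ normalizer (M : Set G)) = Kz M z :=
  le_antisymm (fun _ hg => H.mem_K_of_fix hk hsz hs hg.1 hg.2)
    fun _ hc => ⟨(H.K_fix hk hsz hs hc).1, (H.K_fix hk hsz hs hc).2⟩

theorem Hyp.zassenhaus : Cfsg.IsZassenhausGroup G (G ⧸ normalizer (M : Set G)) := by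
  have C := H.zctx hk hsz hs
  have hab : ((1 : G) : G ⧸ normalizer (M : Set G)) ≠ (s : G ⧸ normalizer (M : Set G)) :=
    fun e => hs ((coset_eq_one _ s).mp e.symm)
  have hcard : Nat.card (G ⧸ normalizer (M : Set G)) = Nat.card M + 1 := by
    rw [← Subgroup.index_eq_card, H.index_N hk hsz hs]
  have hk4 : 4 ≤ Nat.card (Kz M z) := by
    obtain ⟨j, hj⟩ := H.card_K_even; omega
  have hklt := H.card_K_lt
  refine ⟨⟨fun {g g'} h => ?_⟩, ?_, C.three,
    ⟨z, H.hz.1, _, _, hab, (H.K_fix hk hsz hs H.z_mem_K).1, (H.K_fix hk hsz hs H.z_mem_K).2⟩, ?_⟩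
  · have := C.faithful (by rw [hcard]; omega) (g := g'⁻¹ * g) fun p => by
      rw [mul_smul, h, inv_smul_smul]
    exact (inv_mul_eq_one.mp this).symm
  · exact MulAction.is_two_pretransitive_iff.mpr fun hxy huv => C.two hxy huv
  intro R hR hRt
  by_contra hno
  push Not at hno
  set a : G ⧸ normalizer (M : Set G) := ((1 : G) : G ⧸ normalizer (M : Set G)) with ha
  set b : G ⧸ normalizer (M : Set G) := (s : G ⧸ normalizer (M : Set G)) with hb
  have hMa : ∀ y ∈ M, y • a = a := (H.kernel hk hsz hs).fix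
  have hinj : ∀ n n' : R, (n : G) • a = (n' : G) • a → n = n' := fun n n' e => by
    have h1 : n'⁻¹ * n ∈ stabilizer R a := by
      show ((n'⁻¹ * n : R) : G) • a = a
      push_cast
      rw [mul_smul, e, inv_smul_smul]
    exact (inv_mul_eq_one.mp ((eq_bot_iff_forall _).mp (hno a) _ h1)).symm
  have hcardR : Nat.card R = Nat.card M + 1 := by
    rw [← hcard]
    exact Nat.card_eq_of_bijective (fun n : R => (n : G) • a)
      ⟨fun n n' e => hinj n n' e, fun p => hRt.exists_smul_eq a p⟩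
  obtain ⟨n₁, hn₁⟩ := hRt.exists_smul_eq a b
  replace hn₁ : (n₁ : G) • a = b := hn₁
  have hall : ∀ n : R, n ≠ 1 → ∃ y ∈ M, (n : G) = y * n₁ * y⁻¹ ∧ (n : G) • a = y • b := by
    intro n hn
    obtain ⟨y, hy, e⟩ := H.pt_decomp hk hsz hs (p := (n : G) • a) (fun e =>
      hn (hinj n 1 (by rw [e, OneMemClass.coe_one, one_smul])))
    refine ⟨y, hy, congrArg Subtype.val (hinj n ⟨_, hR.conj_mem n₁ n₁.2 y⟩ ?_), e⟩
    show (n : G) • a = (y * n₁ * y⁻¹) • a
    rw [e, mul_smul, mul_smul, inv_smul_eq_iff.mpr (hMa y hy).symm, hn₁]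
  -- all its nontrivial elements are involutions
  have hsq : ∀ n : R, n * n = 1 := by
    have : Fact (Nat.Prime 2) := ⟨Nat.prime_two⟩
    obtain ⟨t, ht⟩ := exists_prime_orderOf_dvd_card' (G := R) 2 (by
      rw [hcardR]; obtain ⟨i, hi⟩ := H.odd_card; omega)
    have ht2 : t * t = 1 := by rw [← pow_two, ← ht, pow_orderOf_eq_one]
    obtain ⟨y, hy, e, -⟩ := hall t (fun e => by rw [e, orderOf_one] at ht; omega)
    have hn1 : (n₁ : G) * n₁ = 1 := by
      have h1 := congrArg Subtype.val ht2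
      rw [Subgroup.coe_mul, e, OneMemClass.coe_one] at h1
      calc (n₁ : G) * n₁ = y⁻¹ * (y * n₁ * y⁻¹ * (y * n₁ * y⁻¹)) * y := by group
        _ = 1 := by rw [h1]; group
    intro n
    by_cases hn : n = 1
    · rw [hn, one_mul]
    obtain ⟨y', hy', e', -⟩ := hall n hn
    refine Subtype.ext ?_
    rw [Subgroup.coe_mul, e', OneMemClass.coe_one]
    calc y' * n₁ * y'⁻¹ * (y' * n₁ * y'⁻¹) = y' * ((n₁ : G) * n₁) * y'⁻¹ := by group
      _ = 1 := by rw [hn1]; group
  have hinv : ∀ n : R, n⁻¹ = n := fun n => inv_eq_of_mul_eq_one_right (hsq n)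
  have hcomm : ∀ n n' : R, n * n' = n' * n := fun n n' => by
    rw [← hinv (n * n'), mul_inv_rev, hinv, hinv]
  -- `z` centralises only two of them
  have hzmem : ∀ n : R, z * n * z ∈ R := fun n => by
    have := hR.conj_mem n n.2 z
    rwa [H.hz.inv_eq] at this
  have hfixed : ∀ n : R, z * n * z = n → n = 1 ∨ n = n₁ := by
    intro n hn
    by_cases h1 : n = 1
    · exact Or.inl h1
    obtain ⟨y, hy, e, e'⟩ := hall n h1
    obtain ⟨hza, hzb⟩ := H.K_fix hk hsz hs H.z_mem_K
    have h2 : (z * (n : G) * z) • a = y⁻¹ • b := by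
      rw [mul_smul, mul_smul, hza, e', ← mul_smul, H.z_move hy, mul_smul, hzb]
    rw [hn, e'] at h2
    have h3 : y * y = 1 := H.b0_free hk hsz hs (mul_mem hy hy) (by
      rw [mul_smul, h2, smul_inv_smul])
    refine Or.inr (Subtype.ext ?_)
    rw [e, H.eq_one_of_sq hy h3, one_mul, inv_one, mul_one]
  let f : R →* R := MonoidHom.mk' (fun n => n * ⟨_, hzmem n⟩) fun n n' => by
    have h1 : (⟨_, hzmem (n * n')⟩ : R) = ⟨_, hzmem n⟩ * ⟨_, hzmem n'⟩ := Subtype.ext (by
      show z * ((n : G) * n') * z = z * n * z * (z * n' * z)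
      rw [show z * (n : G) * z * (z * n' * z) = z * n * (z * z) * n' * z by group, H.hz.2]
      group)
    rw [h1, mul_assoc n n', ← mul_assoc n' ⟨_, hzmem n⟩, hcomm n' ⟨_, hzmem n⟩]
    simp only [mul_assoc]
  have hcard_le : ∀ L : Subgroup R, (∀ n ∈ L, z * (n : G) * z = n) → Nat.card L ≤ 2 := by
    intro L hL
    have hsurj : ∀ n : L, ∃ b : Bool, (n : R) = if b then 1 else n₁ := fun n => by
      rcases hfixed n (hL n n.2) with e | e
      · exact ⟨true, by simp [e]⟩
      · exact ⟨false, by simp [e]⟩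
    choose β hβ using hsurj
    have := Nat.card_le_card_of_injective β fun n n' e => Subtype.ext (by rw [hβ n, hβ n', e])
    rwa [show Nat.card Bool = 2 by simp] at this
  have hker : Nat.card f.ker ≤ 2 := hcard_le _ fun n hn => by
    have h1 : (n : G) * (z * n * z) = 1 := congrArg Subtype.val (MonoidHom.mem_ker.mp hn)
    rw [← inv_eq_of_mul_eq_one_right h1]
    exact congrArg Subtype.val (hinv n)
  have hrange : Nat.card f.range ≤ 2 := hcard_le _ fun n hn => by
    obtain ⟨v, rfl⟩ := hn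
    show z * ((v : G) * (z * v * z)) * z = v * (z * v * z)
    have h1 : (v : G) * (z * v * z) = z * v * z * v :=
      congrArg Subtype.val (hcomm v ⟨_, hzmem v⟩)
    calc z * ((v : G) * (z * v * z)) * z = z * v * z * v * (z * z) := by group
      _ = v * (z * v * z) := by rw [H.hz.2, mul_one, h1]
  have h4 : Nat.card R ≤ 4 := by
    rw [← f.ker.card_mul_index, Subgroup.index_ker]
    exact (Nat.mul_le_mul hker hrange).trans (le_of_eq rfl)
  omega

/-- Bender's lemma when `|K| > 2`. -/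
theorem Hyp.big_case :
    ∃ (F : Type) (_ : Field F) (_ : Fintype F) (p : ℕ) (_ : Fact p.Prime) (_ : CharP F p),
      Fintype.card F = Nat.card M ∧ Cfsg.IsElementaryAbelian p M ∧
        (Nonempty (G ≃* (GL (Fin 2) F ⧸ Subgroup.center (GL (Fin 2) F))) ∨
          (Fintype.card F % 4 = 1 ∧
            Nonempty (G ≃* Matrix.ProjectiveSpecialLinearGroup (Fin 2) F))) := by
  classical
  have hZ := H.zassenhaus hk hsz hs
  have C := H.zctx hk hsz hs
  have hF := H.kernel hk hsz hs
  have hab : ((1 : G) : G ⧸ normalizer (M : Set G)) ≠ (s : G ⧸ normalizer (M : Set G)) :=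
    fun e => hs ((coset_eq_one _ s).mp e.symm)
  have hcard : Nat.card (G ⧸ normalizer (M : Set G)) = Nat.card M + 1 := by
    rw [← Subgroup.index_eq_card, H.index_N hk hsz hs]
  have htp : Nat.card (Zassenhaus.twoPt G ((1 : G) : G ⧸ normalizer (M : Set G))
      (s : G ⧸ normalizer (M : Set G))) = Nat.card (Kz M z) := by
    rw [H.twoPt_eq hk hsz hs]
  have hm1 := H.one_lt
  have hcases := Zassenhaus.abelian_kernel_cases hZ hab hF (fun x hx y hy => (H.comm hx hy).eq)
  obtain ⟨-, p, hp, hpg, hexp⟩ := hF.elementary C hab (by omega) (by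
    rcases hcases with h | ⟨h, -⟩ <;> omega)
  haveI := Fact.mk hp
  have hel : Cfsg.IsElementaryAbelian p M :=
    ⟨⟨⟨fun x y => Subtype.ext (H.comm x.2 y.2).eq⟩⟩, hexp⟩
  obtain ⟨i, hi⟩ := IsPGroup.iff_card.mp hpg
  rcases hcases with hfull | ⟨hhalf, p', f, K, iK, iFK, hp', -, hK, hO, hiso⟩
  · letI : CommGroup M :=
      { (inferInstance : Group M) with mul_comm := fun x y => Subtype.ext (H.comm x.2 y.2).eq }
    haveI : Nontrivial M := Finite.one_lt_card_iff_nontrivial.mp hm1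
    obtain ⟨K, iK, iFK, e, μ, hcK, -, hμ, -, hμs⟩ :=
      Zassenhaus.exists_field_model_transitive (p := p) hpg hF.act (hF.act_fpf C hab)
        (fun x y => Subtype.ext (H.comm_K ((H.twoPt_eq hk hsz hs).le x.2)
          ((H.twoPt_eq hk hsz hs).le y.2)))
        fun u w hu hw => by
          let ψ : Zassenhaus.twoPt G ((1 : G) : G ⧸ normalizer (M : Set G))
              (s : G ⧸ normalizer (M : Set G)) → {v : M // v ≠ 1} := fun h =>
            ⟨hF.act h u, fun e => hu ((hF.act h).injective (e.trans (map_one _).symm))⟩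
          have hψ : Function.Injective ψ := fun h h' e => by
            have e' : hF.act h u = hF.act h' u := congrArg Subtype.val e
            by_contra hne
            refine hu (hF.act_fpf C hab (h'⁻¹ * h) (fun e'' => hne (inv_mul_eq_one.mp e'').symm) u ?_)
            rw [map_mul, MulAut.mul_apply, e', ← MulAut.mul_apply, ← map_mul, inv_mul_cancel,
              map_one, MulAut.one_apply]
          have hb := hψ.bijective_of_nat_card_le (by
            haveI := Fintype.ofFinite M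
            rw [htp, Nat.card_eq_fintype_card (α := {v : M // v ≠ 1}), Fintype.card_subtype_compl,
              Fintype.card_subtype_eq, ← Nat.card_eq_fintype_card]
            omega)
          obtain ⟨h, hh⟩ := hb.2 ⟨w, hw⟩
          exact ⟨h, congrArg Subtype.val hh⟩
    have hchar : CharP K p := charP_of_card hp (hcK.trans hi)
    have hne : (-1 : K) ≠ 1 := by
      intro h
      have h2 : ringChar K = 2 := by
        by_contra hc
        exact Ring.neg_one_ne_one_of_char_ne_two hc h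
      have h3 := FiniteField.even_card_of_char_two h2
      obtain ⟨j, hj⟩ := H.odd_card
      omega
    obtain ⟨φ⟩ := C.identify_pgl_field (by omega) hab hF e μ hμ hμs hne
    exact ⟨K, iK, iFK, p, ⟨hp⟩, hchar, hcK, hel, Or.inl ⟨φ⟩⟩
  · have hcK : Fintype.card K = Nat.card M := by rw [hK]; omega
    refine ⟨K, iK, iFK, p, ⟨hp⟩, charP_of_card hp (hcK.trans hi), hcK, hel, Or.inr ⟨?_, hiso⟩⟩
    obtain ⟨j, hj⟩ := H.card_K_even
    omega

end Cfsg.Agent.BenderTI
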