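import Cfsg.Agent.BenderTI.Setting
import Cfsg.Agent.InvAb.Main
import Cfsg.Agent.Classical.Linear2
import Cfsg.Agent.Core.FPF
import Cfsg.Agent.Invol.BaerSuzuki
import Cfsg.Agent.S0206
import Cfsg.Prelude.Def_Transfer

/-!
# Bender's lemma when `|C_N(z)| = 2`
-/

set_option autoImplicit false

open Subgroup
open Cfsg.Agent.Fg24.CT (Inv2)

namespace Cfsg.Agent.BenderTI

universe u

variable {G : Type u} [Group G]

/-- In characteristic two, `PSL(2, F)` is `SL(2, F)`. -/
theorem psl_equiv {F : Type} [Field F] [CharP F 2] :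
    Nonempty (Matrix.SpecialLinearGroup (Fin 2) F ≃* Matrix.ProjectiveSpecialLinearGroup (Fin 2) F) := by
  have hc : center (Matrix.SpecialLinearGroup (Fin 2) F) = ⊥ := by
    rw [eq_bot_iff]
    intro A hA
    obtain ⟨r, hr, hA'⟩ := Matrix.SpecialLinearGroup.mem_center_iff.mp hA
    have hr1 : r = 1 := by
      rw [Fintype.card_fin] at hr
      exact sub_eq_zero.mp (pow_eq_zero_iff two_ne_zero |>.mp (show (r - 1) ^ 2 = 0 by
        linear_combination hr + (1 - r) * (CharTwo.two_eq_zero : (2 : F) = 0)))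
    rw [mem_bot]
    apply Subtype.ext
    rw [← hA', hr1, map_one]; rfl
  exact ⟨((QuotientGroup.quotientMulEquivOfEq hc).trans QuotientGroup.quotientBot).symm⟩

/-- An abelian subgroup of odd order of `SL(2, 2^f)` is cyclic. -/
theorem isCyclic_of_comm_sl2 {F : Type} [Field F] [Fintype F] [CharP F 2]
    (X : Subgroup (Matrix.SpecialLinearGroup (Fin 2) F)) (hodd : Odd (Nat.card X))
    (hcomm : ∀ a ∈ X, ∀ b ∈ X, a * b = b * a) : IsCyclic X := by
  rcases subsingleton_or_nontrivial X with h | h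
  · infer_instance
  obtain ⟨x, hx1⟩ := exists_ne (1 : X)
  set g : Matrix.SpecialLinearGroup (Fin 2) F := (x : Matrix.SpecialLinearGroup (Fin 2) F) with hg
  have hg1 : g ≠ 1 := fun e => hx1 (Subtype.ext e)
  have hgodd : Odd (orderOf g) := by
    rw [hg, Subgroup.orderOf_coe]
    exact hodd.of_dvd_nat (orderOf_dvd_natCard x)
  have ht : SL2Class.tr g * SL2Class.tr g ≠ 4 := by
    intro e
    have h0 : SL2Class.tr g = 0 := by
      have h2 : (2 : F) = 0 := CharTwo.two_eq_zero
      have h4 : (4 : F) = 0 := by rw [show (4 : F) = 2 * 2 by norm_num, h2, mul_zero]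
      rw [h4] at e
      exact mul_self_eq_zero.mp e
    refine hg1 (InvAb.odd_ne_inv2 hgodd (Subtype.ext ?_))
    rw [Matrix.SpecialLinearGroup.coe_mul, SL2Class.g_sq, h0, Matrix.SpecialLinearGroup.coe_one]
    have h1 : (-1 : F) = 1 := CharTwo.neg_eq 1
    rw [h1, SL2Class.lin_one]
  have := SL2Class.isCyclic_centralizer ht
  have hle : X ≤ centralizer ({g} : Set (Matrix.SpecialLinearGroup (Fin 2) F)) := fun y hy =>
    mem_centralizer_singleton_iff.mpr (hcomm y hy g x.2)
  exact isCyclic_of_injective (inclusion hle) (inclusion_injective hle)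

theorem eq_of_mul_sq_sub_one {f c : ℕ} (hf : 2 ≤ f) (hc : 2 ≤ c)
    (h : f * (f ^ 2 - 1) = c * (c ^ 2 - 1)) : f = c := by
  have key : ∀ a b : ℕ, 2 ≤ a → a < b → a * (a ^ 2 - 1) < b * (b ^ 2 - 1) := fun a b ha hab => by
    have h1 : a ^ 2 < b ^ 2 := Nat.pow_lt_pow_left hab two_ne_zero
    have h2 : 4 ≤ a ^ 2 := by nlinarith
    exact Nat.mul_lt_mul'' hab (by omega)
  rcases lt_trichotomy f c with h1 | h1 | h1
  · have := key f c hf h1; omega
  · exact h1
  · have := key c f hc h1; omega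

/-- The number of conjugates of an element is the index of its centraliser. -/
theorem card_conj [Finite G] (z : G) :
    Nat.card {u : G // ∃ g : G, g * z * g⁻¹ = u} = (centralizer ({z} : Set G)).index := by
  rw [Subgroup.index_eq_card]
  refine (Nat.card_eq_of_bijective (fun q : G ⧸ centralizer ({z} : Set G) =>
    (⟨q.out * z * q.out⁻¹, q.out, rfl⟩ : {u : G // ∃ g : G, g * z * g⁻¹ = u})) ⟨?_, ?_⟩).symm
  · intro q r e
    have e' : q.out * z * q.out⁻¹ = r.out * z * r.out⁻¹ := congrArg Subtype.val e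
    rw [← QuotientGroup.out_eq' q, ← QuotientGroup.out_eq' r, QuotientGroup.eq,
      mem_centralizer_singleton_iff]
    calc q.out⁻¹ * r.out * z = q.out⁻¹ * (r.out * z * r.out⁻¹) * r.out := by group
      _ = z * (q.out⁻¹ * r.out) := by rw [← e']; group
  · rintro ⟨u, g, rfl⟩
    obtain ⟨⟨c, hc⟩, hq⟩ := QuotientGroup.mk_out_eq_mul (centralizer ({z} : Set G)) g
    refine ⟨(g : G ⧸ centralizer ({z} : Set G)), Subtype.ext ?_⟩
    show (g : G ⧸ centralizer ({z} : Set G)).out * z * _ = g * z * g⁻¹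
    rw [hq]
    calc g * c * z * (g * c)⁻¹ = g * (c * z) * c⁻¹ * g⁻¹ := by group
      _ = g * z * g⁻¹ := by rw [mem_centralizer_singleton_iff.mp hc]; group

variable [Finite G] {M : Subgroup G} {z : G} (H : Hyp M z) (hk : Nat.card (Kz M z) = 2)
include H hk

theorem Hyp.K_two {c : G} (hc : c ∈ Kz M z) : c = 1 ∨ c = z := by
  by_cases h : c = 1
  · exact Or.inl h
  refine Or.inr (H.unique_K hc ⟨h, ?_⟩)
  have := pow_card_eq_one' (G := Kz M z) (x := ⟨c, hc⟩)
  rw [hk, pow_two] at this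
  exact congrArg Subtype.val this

theorem Hyp.Cz_sq {g : G} (hg : g ∈ centralizer ({z} : Set G)) : g * g = 1 := by
  by_cases h : g ∈ normalizer (M : Set G)
  · rcases H.K_two hk ⟨h, hg⟩ with e | e <;> subst e
    · exact one_mul 1
    · exact H.hz.2
  · exact (H.Cz_invol (mem_centralizer_singleton_iff.mp hg) h).2

theorem Hyp.Cz_two_group : IsPGroup 2 ↥(centralizer ({z} : Set G)) := fun g =>
  ⟨1, Subtype.ext (by rw [pow_one, pow_two]; exact H.Cz_sq hk g.2)⟩

/-- The arithmetic of the case `|K| = 2`. -/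
theorem Hyp.arith : ∃ a j : ℕ, 1 ≤ a ∧ (j = 1 ∨ j = 2) ∧ (∃ e, a + 1 = 2 ^ e) ∧
    Nat.card M = 1 + j * (a + 1) ∧ M.index = 2 * ((a + 1) * (1 + j * a)) ∧
    Nat.card G = 2 * Nat.card M * ((a + 1) * (1 + j * a)) ∧
    Nat.card ↥(centralizer ({z} : Set G)) = 2 * (a + 1) ∧
    Nat.card {u : G // ∃ g : G, g * z * g⁻¹ = u} = Nat.card M * (1 + j * a) ∧
    Nat.card {u : G // Inv2 u} = Nat.card M * (2 * a + 1) := by
  have : Fact (Nat.Prime 2) := ⟨Nat.prime_two⟩
  obtain ⟨e, he⟩ := IsPGroup.iff_card.mp (H.Cz_two_group hk)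
  have hc2 := card_Cz (M := M) (z := z)
  rw [hk, he] at hc2
  obtain ⟨s, hsz, hsN, -⟩ := H.exists_s
  have hP : 0 < Nat.card (Pz M z) := by
    have : Nonempty (Pz M z) := ⟨⟨s, hsz, hsN⟩⟩
    exact Nat.card_pos
  obtain ⟨e', rfl⟩ : ∃ e', e = e' + 1 := ⟨e - 1, by
    rcases e with _ | e
    · omega
    · rfl⟩
  rw [pow_succ] at hc2
  obtain ⟨a, ha⟩ : ∃ a, 2 ^ e' = a + 1 := ⟨2 ^ e' - 1, (Nat.sub_add_cancel Nat.one_le_two_pow).symm⟩
  have ha1 : 1 ≤ a := by omega
  have hPa : Nat.card (Pz M z) = 2 * a := by omega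
  set m := Nat.card M with hm
  have hG := H.card_G
  rw [hk, hPa, ← hm] at hG
  have hG' : Nat.card G = 2 * m * (1 + m * a) := by rw [hG]; ring
  have hidx : M.index = 2 * (1 + m * a) := by
    have h1 := M.card_mul_index
    rw [hG', ← hm] at h1
    have h2 : m * M.index = m * (2 * (1 + m * a)) := by rw [h1]; ring
    exact Nat.eq_of_mul_eq_mul_left Nat.card_pos h2
  set r := (centralizer ({z} : Set G)).index with hr
  have hrm : r * (a + 1) = m * (1 + m * a) := by
    have h1 := (centralizer ({z} : Set G)).card_mul_index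
    rw [he, pow_succ, ha, hG', ← hr] at h1
    have h2 : 2 * (r * (a + 1)) = 2 * (m * (1 + m * a)) := by
      rw [← mul_assoc 2 m, ← h1]; ring
    omega
  have hdvd : (a + 1) ∣ 1 + m * a := by
    have hco : Nat.Coprime (a + 1) m := by
      rw [← ha]; exact (Nat.coprime_two_left.mpr H.odd_card).pow_left _
    exact hco.dvd_of_dvd_mul_left ⟨r, by rw [← hrm, mul_comm]⟩
  have hm1 : 1 < m := H.one_lt
  obtain ⟨j, hj⟩ : (a + 1) ∣ m - 1 := by
    have h1 : (1 + m * a) + (m - 1) = m * (a + 1) := by rw [mul_add, mul_one]; omega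
    exact (Nat.dvd_add_right hdvd).mp (h1 ▸ dvd_mul_left (a + 1) m)
  have hmj : m = 1 + j * (a + 1) := by rw [mul_comm j]; omega
  have hh : 1 + m * a = (a + 1) * (1 + j * a) := by rw [hmj]; ring
  have hrj : r = m * (1 + j * a) := by
    have h2 : (a + 1) * r = (a + 1) * (m * (1 + j * a)) := by
      rw [mul_comm (a + 1) r, hrm, hh]; ring
    exact Nat.eq_of_mul_eq_mul_left (Nat.succ_pos a) h2
  have hn : Nat.card {u : G // Inv2 u} = m * (2 * a + 1) := by
    have := H.count.2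
    rw [hk, hidx] at this
    have h2 : m * (2 * a + 1) = 2 * (m * a) + m := by ring
    omega
  have hle : r ≤ Nat.card {u : G // Inv2 u} := by
    rw [hr, ← card_conj z]
    refine Nat.card_le_card_of_injective (fun u => ⟨u.1, ?_⟩) fun u v e => Subtype.ext
      (congrArg (fun w : {u : G // Inv2 u} => (w : G)) e :)
    obtain ⟨g, hg⟩ := u.2
    rw [← hg]
    exact H.hz.conj g
  have hj2 : j * a ≤ 2 * a := by
    rw [hrj, hn] at hle
    have := Nat.le_of_mul_le_mul_left hle Nat.card_pos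
    omega
  have hj2' : j ≤ 2 := Nat.le_of_mul_le_mul_right hj2 ha1
  have hj1 : j ≠ 0 := by rintro rfl; omega
  refine ⟨a, j, ha1, by omega, ⟨e', ha.symm⟩, hmj, by rw [hidx, hh], by rw [hG', hh],
    by rw [he, pow_succ, ha, mul_comm], by rw [card_conj, ← hr, hrj], hn⟩

/-- All involutions are conjugate: the group is `PSL(2, 2^e)`. -/
theorem Hyp.two_case_conj {a : ℕ} (ha : 1 ≤ a) (hm : Nat.card M = 1 + 2 * (a + 1))
    (hG : Nat.card G = 2 * Nat.card M * ((a + 1) * (1 + 2 * a)))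
    (hr : Nat.card {u : G // ∃ g : G, g * z * g⁻¹ = u} = Nat.card M * (1 + 2 * a))
    (hn : Nat.card {u : G // Inv2 u} = Nat.card M * (2 * a + 1)) :
    ∃ (F : Type) (_ : Field F) (_ : Fintype F) (e : ℕ), 1 < e ∧ Fintype.card F = 2 ^ e ∧
      IsCyclic ↥M ∧ Nat.card M = 2 ^ e + 1 ∧
      Nonempty (G ≃* Matrix.ProjectiveSpecialLinearGroup (Fin 2) F) := by
  classical
  have : Fact (Nat.Prime 2) := ⟨Nat.prime_two⟩
  let φ : {u : G // ∃ g : G, g * z * g⁻¹ = u} → {u : G // Inv2 u} := fun u =>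
    ⟨u.1, by obtain ⟨g, hg⟩ := u.2; rw [← hg]; exact H.hz.conj g⟩
  have hφ : Function.Injective φ := fun u v e => Subtype.ext
    (congrArg (fun w : {u : G // Inv2 u} => (w : G)) e :)
  have hφs := (hφ.bijective_of_nat_card_le (by rw [hn, hr, add_comm 1 (2 * a)])).2
  have hev : Even (Nat.card G) := even_iff_two_dvd.mpr ⟨_, by rw [hG, mul_assoc]⟩
  have hab : ∀ t : G, orderOf t = 2 → IsMulCommutative ↥(centralizer ({t} : Set G)) := by
    intro t ht
    have hI : Inv2 t := ⟨fun e => by simp [e] at ht, by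
      have := pow_orderOf_eq_one t
      rwa [ht, pow_two] at this⟩
    obtain ⟨⟨u, g, hg⟩, hu⟩ := hφs ⟨t, hI⟩
    obtain rfl : u = t := congrArg Subtype.val hu
    have hsq : ∀ x ∈ centralizer ({u} : Set G), x⁻¹ = x := fun x hx => by
      have h1 : g⁻¹ * x * g ∈ centralizer ({z} : Set G) := by
        rw [mem_centralizer_singleton_iff]
        have h2 := mem_centralizer_singleton_iff.mp hx
        rw [← hg] at h2
        calc g⁻¹ * x * g * z = g⁻¹ * (x * (g * z * g⁻¹)) * g := by group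
          _ = z * (g⁻¹ * x * g) := by rw [h2]; group
      have h3 := H.Cz_sq hk h1
      refine inv_eq_of_mul_eq_one_right ?_
      calc x * x = g * ((g⁻¹ * x * g) * (g⁻¹ * x * g)) * g⁻¹ := by group
        _ = 1 := by rw [h3]; group
    refine ⟨⟨fun x y => Subtype.ext ?_⟩⟩
    show (x : G) * y = y * x
    rw [← hsq _ (mul_mem x.2 y.2), mul_inv_rev, hsq _ x.2, hsq _ y.2]
  rcases InvAb.trichotomy hev hab with hcyc | hnor | ⟨F, iF, iFt, A, iA, iAf, hchar, hAodd, ⟨φ⟩⟩
  · exfalso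
    obtain ⟨s, hsz, hsN, hs⟩ := H.exists_s
    obtain ⟨P, hP⟩ := (H.Cz_two_group hk).exists_le_sylow
    have h1 := Fusion.mem_zpowers_of_orderOf_dvd (hcyc P)
      (hP (mem_centralizer_singleton_iff.mpr hsz)) (hP (mem_centralizer_singleton_iff.mpr rfl))
      (by rw [InvAb.inv2_orderOf hs, InvAb.inv2_orderOf H.hz])
    obtain ⟨i, hi, e⟩ := Finset.mem_image.mp (mem_zpowers_iff_mem_range_orderOf.mp h1)
    rw [InvAb.inv2_orderOf H.hz, Finset.mem_range] at hi
    interval_cases i
    · exact hs.1 (by rw [← e, pow_zero])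
    · exact hsN (by rw [← e, pow_one]; exact H.hzN)
  · exfalso
    obtain ⟨P, hP⟩ := (IsPGroup.of_card (p := 2) (n := 1) (G := zpowers z)
      (by rw [Nat.card_zpowers, InvAb.inv2_orderOf H.hz, pow_one])).exists_le_sylow
    obtain ⟨y, hy, hy1⟩ := H.exists_ne
    have hzP : z ∈ (P : Subgroup G) := hP (mem_zpowers z)
    have h1 : y * y ∈ (P : Subgroup G) := by
      have := mul_mem ((hnor P).conj_mem z hzP y) hzP
      rwa [H.conj_eq hy, mul_assoc, H.hz.2, mul_one] at this
    obtain ⟨k, hk'⟩ := IsPGroup.iff_orderOf.mp P.2 ⟨y * y, h1⟩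
    rw [Subgroup.orderOf_mk] at hk'
    have h2 := H.odd_mem (mul_mem hy hy)
    rw [hk'] at h2
    obtain rfl : k = 0 := by
      by_contra hk0
      rw [Nat.odd_iff] at h2
      have := Nat.two_dvd_ne_zero.mpr h2
      exact this (dvd_pow_self 2 hk0)
    exact hy1 (H.eq_one_of_sq hy (orderOf_eq_one_iff.mp (by rw [hk', pow_zero])))
  have hA : ∀ b : A, b = 1 := fun b => by
    have h1 : φ.symm (1, b) ∈ centralizer ({z} : Set G) := by
      rw [mem_centralizer_singleton_iff]
      apply φ.injective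
      rw [map_mul, map_mul, φ.apply_symm_apply]
      exact Prod.ext (by simp) (mul_comm _ _)
    have h2 := congrArg φ (H.Cz_sq hk h1)
    rw [map_mul, φ.apply_symm_apply, map_one] at h2
    exact InvAb.odd_ne_inv2 (hAodd.of_dvd_nat (orderOf_dvd_natCard b)) (congrArg Prod.snd h2 :)
  let π : G →* Matrix.SpecialLinearGroup (Fin 2) F := (MonoidHom.fst _ _).comp φ.toMonoidHom
  have hπ : Function.Bijective π := ⟨fun x y e => φ.injective
      (Prod.ext e ((hA _).trans (hA _).symm)),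
    fun x => ⟨φ.symm (x, 1), by show (φ (φ.symm (x, 1))).1 = x; rw [φ.apply_symm_apply]⟩⟩
  let ψ : G ≃* Matrix.SpecialLinearGroup (Fin 2) F := MulEquiv.ofBijective π hπ
  obtain ⟨⟨e, he0⟩, -, he⟩ := FiniteField.card F 2
  have hcardG : Nat.card G = Fintype.card F * (Fintype.card F ^ 2 - 1) := by
    rw [Nat.card_congr ψ.toEquiv]; exact Classical.card_sl2
  have hF : Fintype.card F = 2 * (a + 1) := by
    refine eq_of_mul_sq_sub_one Fintype.one_lt_card (by omega) ?_
    rw [← hcardG, hG, hm]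
    have : (2 * (a + 1)) ^ 2 - 1 = (1 + 2 * a) * (1 + 2 * (a + 1)) := by
      have : (2 * (a + 1)) ^ 2 = (1 + 2 * a) * (1 + 2 * (a + 1)) + 1 := by ring
      omega
    rw [this]; ring
  have he1 : 1 < e := by
    by_contra h
    have : Fintype.card F ≤ 2 := by
      rw [he]; exact (Nat.pow_le_pow_right two_pos (show e ≤ 1 by omega)).trans (by norm_num)
    omega
  refine ⟨F, iF, iFt, e, he1, he, ?_, ?_, psl_equiv.map ψ.trans⟩
  · have h1 : IsCyclic ↥(M.map ψ.toMonoidHom) := by
      refine isCyclic_of_comm_sl2 _ ?_ ?_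
      · rw [card_map_of_injective ψ.injective]; exact H.odd_card
      · rintro _ ⟨x, hx, rfl⟩ _ ⟨y, hy, rfl⟩
        rw [← map_mul, ← map_mul, (H.comm hx hy).eq]
    exact (M.equivMapOfInjective ψ.toMonoidHom ψ.injective).isCyclic.mpr h1
  · rw [show (2 : ℕ) ^ e = 2 * (a + 1) from he.symm.trans hF, hm, add_comm]

/-- Two classes of involutions: an elementary abelian normal subgroup with dihedral complement. -/
theorem Hyp.two_case_split {a e : ℕ} (ha : 1 ≤ a) (he : a + 1 = 2 ^ e)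
    (hm : Nat.card M = 1 + (a + 1)) (hidx : M.index = 2 * ((a + 1) * (1 + a)))
    (hG : Nat.card G = 2 * Nat.card M * ((a + 1) * (1 + a)))
    (hr : Nat.card {u : G // ∃ g : G, g * z * g⁻¹ = u} = Nat.card M * (1 + a))
    (hn : Nat.card {u : G // Inv2 u} = Nat.card M * (2 * a + 1)) :
    ∃ (d : ℕ) (E : Subgroup G), 1 ≤ d ∧ E.Normal ∧ Cfsg.IsElementaryAbelian 2 E ∧
      Nat.card E = 2 ^ (2 * d) ∧ E ⊓ normalizer (M : Set G) = ⊥ ∧
      E ⊔ normalizer (M : Set G) = ⊤ ∧
      Nonempty (↥(normalizer (M : Set G)) ≃* DihedralGroup (2 ^ d + 1)) := by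
  classical
  have : Fact (Nat.Prime 2) := ⟨Nat.prime_two⟩
  -- the involutions outside the class of `z`
  let T := {u : G // Inv2 u ∧ ¬ ∃ g : G, g * z * g⁻¹ = u}
  have hT : Nat.card {u : G // Inv2 u} =
      Nat.card {u : G // ∃ g : G, g * z * g⁻¹ = u} + Nat.card T := by
    rw [← Nat.card_sum]
    refine (Nat.card_eq_of_bijective (Sum.elim
      (fun u => (⟨u.1, by obtain ⟨g, hg⟩ := u.2; rw [← hg]; exact H.hz.conj g⟩ :
        {u : G // Inv2 u})) (fun u : T => ⟨u, u.2.1⟩)) ⟨?_, ?_⟩).symm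
    · rintro (u | u) (v | v) e' <;> have e'' := congrArg Subtype.val e' <;>
        simp only [Sum.elim_inl, Sum.elim_inr] at e''
      · rw [Subtype.ext e'']
      · exact absurd (e'' ▸ u.2) v.2.2
      · exact absurd (e''.symm ▸ v.2) u.2.2
      · rw [Subtype.ext e'']
    · rintro ⟨u, hu⟩
      by_cases h : ∃ g : G, g * z * g⁻¹ = u
      · exact ⟨.inl ⟨u, h⟩, rfl⟩
      · exact ⟨.inr ⟨u, hu, h⟩, rfl⟩
  have hTc : Nat.card T + 1 = (a + 1) * (a + 1) := by
    have h2 : Nat.card M * (2 * a + 1) + 1 = Nat.card M * (1 + a) + (a + 1) * (a + 1) := by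
      rw [hm]; ring
    rw [hn, hr] at hT
    omega
  -- such involutions generate 2-groups with their conjugates
  have hodd : ∀ t : T, ∀ x : G, ∀ r : ℕ, r.Prime → Odd r → orderOf x = r →
      (t : G) * x * t = x⁻¹ → False := by
    rintro ⟨t, ht, htc⟩ x r hr hrodd hx htx
    have := Fact.mk hr
    have hrG : r ∣ Nat.card G := hx ▸ orderOf_dvd_natCard x
    have hr2 : ¬ r ∣ 2 := fun h => by
      rw [(Nat.prime_dvd_prime_iff_eq hr Nat.prime_two).mp h] at hrodd
      exact absurd hrodd (by decide)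
    have hra : ¬ r ∣ (a + 1) := fun h => hr2 (hr.dvd_of_dvd_pow (he ▸ h))
    obtain ⟨P⟩ : Nonempty (Sylow r M) := inferInstance
    have hR : ¬ r ∣ ((P : Subgroup M).map M.subtype).index := by
      rw [index_map_subtype, hidx, add_comm 1 a]
      intro h
      rcases hr.dvd_mul.mp h with h | h
      · exact P.not_dvd_index h
      · rcases hr.dvd_mul.mp h with h | h
        · exact hr2 h
        · rcases hr.dvd_mul.mp h with h | h <;> exact hra h
    let R : Sylow r G := (P.2.map M.subtype).toSylow hR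
    obtain ⟨Q, hQ⟩ := (IsPGroup.of_card (p := r) (n := 1) (G := zpowers x)
      (by rw [Nat.card_zpowers, hx, pow_one])).exists_le_sylow
    obtain ⟨g, hg⟩ := MulAction.exists_smul_eq G Q R
    have hxR : g * x * g⁻¹ ∈ (R : Subgroup G) := by
      rw [← hg, Sylow.coe_subgroup_smul]
      exact Subgroup.smul_mem_pointwise_smul x (MulAut.conj g) _ (hQ (mem_zpowers x))
    have hxM : g * x * g⁻¹ ∈ M := by
      obtain ⟨w, -, hw⟩ := (IsPGroup.mem_toSylow _ _).mp hxR
      exact hw ▸ w.2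
    have hx1 : g * x * g⁻¹ ≠ 1 := fun h => by
      rw [conj_eq_one_iff] at h
      rw [h, orderOf_one] at hx
      exact hr.one_lt.ne hx
    have htN : g * t * g⁻¹ ∈ normalizer (M : Set G) := by
      by_contra hcon
      refine hx1 (H.ti _ hcon _ hxM ?_)
      rw [(ht.conj g).inv_eq, show g * t * g⁻¹ * (g * x * g⁻¹) * (g * t * g⁻¹) =
        g * (t * x * t) * g⁻¹ by group, htx, ← conj_inv]
      exact inv_mem hxM
    obtain ⟨y, -, hy⟩ := H.invol_N_conj (ht.conj g) htN
    exact htc ⟨g⁻¹ * y, by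
      calc g⁻¹ * y * z * (g⁻¹ * y)⁻¹ = g⁻¹ * (y * z * y⁻¹) * g := by group
        _ = t := by rw [hy]; group⟩
  have hpg : ∀ t : T, ∀ g : G, IsPGroup 2
      ↥(zpowers (t : G) ⊔ (zpowers (t : G)).map (MulAut.conj g).toMonoidHom) := by
    intro t g
    rw [MonoidHom.map_zpowers, zpowers_eq_closure, zpowers_eq_closure, ← Subgroup.closure_union,
      Set.singleton_union, MulEquiv.coe_toMonoidHom, MulAut.conj_apply]
    set t' := g * (t : G) * g⁻¹ with ht'
    have hI : Inv2 t' := t.2.1.conj g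
    by_cases hne : (t : G) = t'
    · rw [← hne, Set.insert_eq_of_mem (Set.mem_singleton _), ← zpowers_eq_closure]
      exact IsPGroup.of_card (n := 1)
        (by rw [Nat.card_zpowers, InvAb.inv2_orderOf t.2.1, pow_one])
    · obtain ⟨φ⟩ := S0206.result (t : G) t' (InvAb.inv2_orderOf t.2.1) (InvAb.inv2_orderOf hI) hne
      rcases Nat.eq_two_pow_or_exists_odd_prime_and_dvd (orderOf ((t : G) * t')) with
        ⟨i, hi⟩ | ⟨r, hr, hrd, hrodd⟩
      · exact IsPGroup.of_card (n := i + 1)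
          (by rw [Nat.card_congr φ.toEquiv, DihedralGroup.nat_card, hi, pow_succ, mul_comm])
      · exfalso
        obtain ⟨l, hl⟩ := hrd
        have hl0 : l ≠ 0 := fun e' => by
          rw [e', mul_zero] at hl
          exact (orderOf_pos _).ne' hl
        refine hodd t (((t : G) * t') ^ l) r hr hrodd ?_ ?_
        · rw [orderOf_pow_of_dvd hl0 ⟨r, by rw [hl, mul_comm]⟩, hl,
            Nat.mul_div_cancel _ (Nat.pos_of_ne_zero hl0)]
        · have h := conj_pow (a := (t : G)) (b := (t : G) * t') (i := l)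
          rw [t.2.1.inv_eq] at h
          rw [← h, show (t : G) * (t * t') * t = (t * t) * (t' * t) by group, t.2.1.2, one_mul,
            ← inv_pow, mul_inv_rev, hI.inv_eq, t.2.1.inv_eq]
  -- the largest normal 2-subgroup
  obtain ⟨P⟩ : Nonempty (Sylow 2 G) := inferInstance
  set E := (P : Subgroup G).normalCore with hE
  have hEn : E.Normal := normalCore_normal _
  have hE2 : IsPGroup 2 E := P.2.to_le (normalCore_le _)
  have hTE : ∀ t : T, (t : G) ∈ E := by
    intro t
    obtain ⟨N₀, hN₀, hN₀2, hle⟩ := Invol.baerSuzuki (zpowers (t : G))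
      (IsPGroup.of_card (n := 1) (by rw [Nat.card_zpowers, InvAb.inv2_orderOf t.2.1, pow_one]))
      (hpg t)
    have hNP : N₀ ≤ (P : Subgroup G) := by
      have h1 := P.3 (P.2.to_sup_of_normal_right hN₀2) le_sup_left
      exact h1 ▸ le_sup_right
    exact normal_le_normalCore.mpr hNP (hle (mem_zpowers _))
  have hzE : z ∉ E := by
    intro h
    obtain ⟨y, hy, hy1⟩ := H.exists_ne
    have h1 : y * y ∈ E := by
      have := mul_mem (hEn.conj_mem z h y) h
      rwa [H.conj_eq hy, mul_assoc, H.hz.2, mul_one] at this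
    obtain ⟨k, hk'⟩ := IsPGroup.iff_orderOf.mp hE2 ⟨y * y, h1⟩
    rw [Subgroup.orderOf_mk] at hk'
    have h2 := H.odd_mem (mul_mem hy hy)
    rw [hk', Nat.odd_iff] at h2
    obtain rfl : k = 0 := by
      by_contra hk0
      exact Nat.two_dvd_ne_zero.mpr h2 (dvd_pow_self 2 hk0)
    exact hy1 (H.eq_one_of_sq hy (orderOf_eq_one_iff.mp (by rw [hk', pow_zero])))
  have hEN : E ⊓ normalizer (M : Set G) = ⊥ := by
    by_contra hne
    have := (nontrivial_iff_ne_bot _).mpr hne
    obtain ⟨n, hn0, hn'⟩ := (hE2.to_le (inf_le_left : E ⊓ normalizer (M : Set G) ≤ E)).nontrivial_iff_card.mp this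
    obtain ⟨x, hx⟩ := exists_prime_orderOf_dvd_card' (G := ↥(E ⊓ normalizer (M : Set G))) 2
      (by rw [hn']; exact dvd_pow_self 2 hn0.ne')
    rw [← Subgroup.orderOf_coe] at hx
    have hI : Inv2 (x : G) := ⟨fun e' => by simp [e'] at hx, by
      have := pow_orderOf_eq_one (x : G)
      rwa [hx, pow_two] at this⟩
    obtain ⟨y, -, hy⟩ := H.invol_N_conj hI x.2.2
    refine hzE ?_
    have := hEn.conj_mem _ x.2.1 y⁻¹
    rwa [← hy, show y⁻¹ * (y * z * y⁻¹) * y⁻¹⁻¹ = z by group] at this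
  have hinjEN : Function.Injective fun p : E × normalizer (M : Set G) => (p.1 : G) * p.2 := by
    intro p q e'
    have e'' : (p.1 : G) * p.2 = q.1 * q.2 := e'
    have h1 : (q.1 : G)⁻¹ * p.1 = q.2 * (p.2 : G)⁻¹ := by
      rw [eq_mul_inv_iff_mul_eq, mul_assoc, e'', inv_mul_cancel_left]
    have h2 : (q.1 : G)⁻¹ * p.1 ∈ E ⊓ normalizer (M : Set G) :=
      mem_inf.mpr ⟨mul_mem (inv_mem q.1.2) p.1.2, h1 ▸ mul_mem q.2.2 (inv_mem p.2.2)⟩
    rw [hEN, mem_bot] at h2
    have h3 : q.1 = p.1 := Subtype.ext (inv_mul_eq_one.mp h2)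
    exact Prod.ext h3.symm (Subtype.ext (mul_left_cancel (h3 ▸ e'')))
  have hEle : Nat.card E ≤ (a + 1) * (a + 1) := by
    have h1 := Nat.card_le_card_of_injective _ hinjEN
    rw [Nat.card_prod, H.card_N, hk, hG, add_comm 1 a] at h1
    have h2 : Nat.card M * 2 * Nat.card E ≤ Nat.card M * 2 * ((a + 1) * (a + 1)) := by
      calc Nat.card M * 2 * Nat.card E = Nat.card E * (Nat.card M * 2) := by ring
        _ ≤ 2 * Nat.card M * ((a + 1) * (a + 1)) := h1
        _ = _ := by ring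
    exact Nat.le_of_mul_le_mul_left h2 (Nat.mul_pos Nat.card_pos two_pos)
  let ι : Option T → E := fun o => o.elim 1 fun t => ⟨t, hTE t⟩
  have hι : Function.Injective ι := by
    intro o o' e'
    have e'' := congrArg Subtype.val e'
    rcases o with _ | t <;> rcases o' with _ | t' <;> simp [ι] at e''
    · rfl
    · exact absurd e''.symm t'.2.1.1
    · exact absurd e'' t.2.1.1
    · rw [Subtype.ext e'']
  have hbij := hι.bijective_of_nat_card_le (by rw [Finite.card_option, hTc]; exact hEle)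
  have hEcard : Nat.card E = (a + 1) * (a + 1) := by
    rw [← Nat.card_eq_of_bijective ι hbij, Finite.card_option, hTc]
  have hEsq : ∀ x ∈ E, x * x = 1 := fun x hx => by
    obtain ⟨o, ho⟩ := hbij.2 ⟨x, hx⟩
    have ho' := congrArg Subtype.val ho
    rcases o with _ | t <;> simp [ι] at ho' <;> subst ho'
    · exact one_mul 1
    · exact t.2.1.2
  have hEab : IsMulCommutative E := ⟨⟨fun x y => Subtype.ext (by
    have hs : ∀ w ∈ E, w⁻¹ = w := fun w hw => inv_eq_of_mul_eq_one_right (hEsq w hw)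
    show (x : G) * y = y * x
    rw [← hs _ (mul_mem x.2 y.2), mul_inv_rev, hs _ x.2, hs _ y.2])⟩⟩
  have hsup : E ⊔ normalizer (M : Set G) = ⊤ := by
    have hb := hinjEN.bijective_of_nat_card_le (by
      rw [Nat.card_prod, H.card_N, hk, hEcard, hG, add_comm 1 a]; exact le_of_eq (by ring))
    refine eq_top_iff.mpr fun g _ => ?_
    obtain ⟨⟨x, n⟩, hxn⟩ := hb.2 g
    rw [← hxn]
    exact mul_mem_sup x.2 n.2
  -- `M` acts on `E` without fixed points
  have hcyc : IsCyclic M := by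
    letI : CommGroup E := { (inferInstance : Group E) with mul_comm := hEab.is_comm.comm }
    have : Nontrivial E := Finite.one_lt_card_iff_nontrivial.mp (by rw [hEcard]; nlinarith)
    refine Core.IsFPF.isCyclic_of_comm
      (φ := (MulAut.conjNormal (H := E)).comp M.subtype) ?_
      ⟨⟨fun x y => Subtype.ext (H.comm x.2 y.2).eq⟩⟩
    intro y hy v hv
    by_contra hv1
    have hv' : (y : G) * v * (y : G)⁻¹ = v := by
      have := congrArg Subtype.val hv
      simpa [MulAut.conjNormal_apply] using this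
    have hc : Commute (v : G) y := by
      show (v : G) * y = y * v
      conv_lhs => rw [← hv', inv_mul_cancel_right]
    exact hv1 (Subtype.ext (InvAb.odd_ne_inv2 (H.odd_of_commute y.2
      (fun e' => hy (Subtype.ext e')) hc) (hEsq v v.2)))
  obtain ⟨γ, hγ⟩ := hcyc.exists_generator
  have hγM : ∀ x ∈ M, x ∈ zpowers (γ : G) := fun x hx => by
    obtain ⟨i, hi⟩ := mem_zpowers_iff.mp (hγ ⟨x, hx⟩)
    exact mem_zpowers_iff.mpr ⟨i, congrArg Subtype.val hi⟩
  have hγo : orderOf (γ : G) = 2 ^ e + 1 := by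
    rw [Subgroup.orderOf_coe, orderOf_eq_card_of_forall_mem_zpowers hγ, hm, ← he, add_comm]
  have hγ1 : (γ : G) ≠ 1 := fun e' => by
    rw [e', orderOf_one] at hγo
    have : 0 < 2 ^ e := by positivity
    omega
  have hzγ : Inv2 (z * (γ : G)) := by
    rw [H.z_move γ.2]; exact H.mul_z (inv_mem γ.2)
  have hgen : closure ({z, z * (γ : G)} : Set G) = normalizer (M : Set G) := by
    refine le_antisymm ((closure_le _).mpr ?_) ?_
    · rintro w (rfl | rfl)
      · exact H.hzN
      · exact mul_mem H.hzN (le_normalizer γ.2)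
    · have hz' : z ∈ closure ({z, z * (γ : G)} : Set G) := subset_closure (Set.mem_insert _ _)
      have hγ' : (γ : G) ∈ closure ({z, z * (γ : G)} : Set G) := by
        have := mul_mem hz' (subset_closure (Set.mem_insert_of_mem z (Set.mem_singleton (z * (γ : G)))))
        rwa [← mul_assoc, H.hz.2, one_mul] at this
      rw [← H.fac]
      refine sup_le (fun x hx => ?_) (fun c hc => ?_)
      · obtain ⟨i, rfl⟩ := mem_zpowers_iff.mp (hγM x hx)
        exact zpow_mem hγ' i
      · rcases H.K_two hk hc with rfl | rfl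
        · exact one_mem _
        · exact hz'
  obtain ⟨φ⟩ := S0206.result z (z * (γ : G)) (InvAb.inv2_orderOf H.hz) (InvAb.inv2_orderOf hzγ)
    (fun e' => hγ1 (mul_left_cancel ((mul_one z).trans e')).symm)
  have hord : orderOf (z * (z * (γ : G))) = 2 ^ e + 1 := by
    rw [← mul_assoc, H.hz.2, one_mul, hγo]
  refine ⟨e, E, ?_, hEn, ⟨hEab, fun x hx => by rw [pow_two]; exact hEsq x hx⟩,
    by rw [hEcard, he, two_mul, pow_add], hEN, hsup, ?_⟩
  · by_contra h
    obtain rfl : e = 0 := by omega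
    rw [pow_zero] at he
    omega
  · rw [← hgen]
    rw [hord] at φ
    exact ⟨φ⟩

/-- Bender's lemma when `|K| = 2`. -/
theorem Hyp.two_case :
    (∃ (F : Type) (_ : Field F) (_ : Fintype F) (e : ℕ), 1 < e ∧ Fintype.card F = 2 ^ e ∧
      IsCyclic ↥M ∧ Nat.card M = 2 ^ e + 1 ∧
      Nonempty (G ≃* Matrix.ProjectiveSpecialLinearGroup (Fin 2) F)) ∨
    (∃ (d : ℕ) (E : Subgroup G), 1 ≤ d ∧ E.Normal ∧ Cfsg.IsElementaryAbelian 2 E ∧
      Nat.card E = 2 ^ (2 * d) ∧ E ⊓ normalizer (M : Set G) = ⊥ ∧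
      E ⊔ normalizer (M : Set G) = ⊤ ∧
      Nonempty (↥(normalizer (M : Set G)) ≃* DihedralGroup (2 ^ d + 1))) := by
  obtain ⟨a, j, ha, hj | hj, ⟨e, he⟩, hm, hidx, hG, -, hr, hn⟩ := H.arith hk <;> subst hj
  · simp only [one_mul] at hm hidx hG hr
    exact Or.inr (H.two_case_split hk ha he hm hidx hG hr hn)
  · exact Or.inl (H.two_case_conj hk ha hm hG hr hn)

end Cfsg.Agent.BenderTI
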