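import Cfsg.Agent.InvAb.Config
import Cfsg.Agent.InvAb.Basic

/-!
# A TI subgroup with many involutions

The setting of Bender's counting lemma: `M` is a TI subgroup with centralisers of odd order, whose
normaliser is `M · C(z)` for an involution `z`, and there are more involutions than cosets of `M`.
Every coset of `M` outside the normaliser contains exactly one involution.
-/

set_option autoImplicit false

open Subgroup
open Cfsg.Agent.Fg24.CT (Inv2)

namespace Cfsg.Agent.BenderTI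

universe u

variable {G : Type u} [Group G]

/-- The centraliser of `z` in the normaliser of `M`. -/
abbrev Kz (M : Subgroup G) (z : G) : Subgroup G :=
  normalizer (M : Set G) ⊓ centralizer ({z} : Set G)

/-- The standing hypotheses. -/
structure Hyp (M : Subgroup G) (z : G) : Prop where
  ne : M ≠ ⊥
  ti : ∀ g : G, g ∉ normalizer (M : Set G) → ∀ x ∈ M, g⁻¹ * x * g ∈ M → x = 1
  hz : Inv2 z
  hzN : z ∈ normalizer (M : Set G)
  fac : M ⊔ Kz M z = normalizer (M : Set G)
  hodd : ∀ x ∈ M, x ≠ 1 → Odd (Nat.card ↥(centralizer ({x} : Set G)))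
  out : ∃ g : G, g ∉ normalizer (M : Set G)
  many : M.index < Nat.card {u : G // Inv2 u}

theorem mem_Kz {M : Subgroup G} {z c : G} :
    c ∈ Kz M z ↔ c ∈ normalizer (M : Set G) ∧ c * z = z * c := by
  rw [mem_inf, mem_centralizer_singleton_iff]

/-- The coset representative of a point of `G ⧸ M` normalises `M` exactly if the point does. -/
theorem out_mem_iff (M : Subgroup G) (g : G) :
    (g : G ⧸ M).out ∈ normalizer (M : Set G) ↔ g ∈ normalizer (M : Set G) := by
  obtain ⟨h, hh⟩ := QuotientGroup.mk_out_eq_mul M g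
  rw [hh]
  exact mul_mem_cancel_right (le_normalizer h.2)

variable [Finite G] {M : Subgroup G} {z : G} (H : Hyp M z)
include H

theorem Hyp.conj_mem {n x : G} (hn : n ∈ normalizer (M : Set G)) (hx : x ∈ M) :
    n * x * n⁻¹ ∈ M :=
  (mem_normalizer_iff.mp hn x).mp hx

theorem Hyp.odd_of_commute {g y : G} (hy : y ∈ M) (hy1 : y ≠ 1) (h : Commute g y) :
    Odd (orderOf g) := by
  refine (H.hodd y hy hy1).of_dvd_nat ?_
  have h1 : g ∈ centralizer ({y} : Set G) := mem_centralizer_singleton_iff.mpr h.eq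
  rw [← Subgroup.orderOf_mk (H := centralizer ({y} : Set G)) g h1]
  exact orderOf_dvd_natCard _

theorem Hyp.exists_ne : ∃ y ∈ M, y ≠ 1 := M.bot_or_exists_ne_one.resolve_left H.ne

theorem Hyp.odd_mem {x : G} (hx : x ∈ M) : Odd (orderOf x) := by
  rcases eq_or_ne x 1 with rfl | h
  · rw [orderOf_one]; exact odd_one
  · exact H.odd_of_commute hx h (Commute.refl x)

theorem Hyp.not_inv2 {x : G} (hx : x ∈ M) : ¬ Inv2 x := fun h =>
  h.1 (InvAb.odd_ne_inv2 (H.odd_mem hx) h.2)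

theorem Hyp.z_not_mem : z ∉ M := fun h => H.not_inv2 h H.hz

theorem Hyp.odd_card : Odd (Nat.card M) := by
  rw [← Nat.not_even_iff_odd, even_iff_two_dvd]
  intro h
  have : Fact (Nat.Prime 2) := ⟨Nat.prime_two⟩
  obtain ⟨x, hx⟩ := exists_prime_orderOf_dvd_card' 2 h
  rw [← Subgroup.orderOf_coe] at hx
  have := H.odd_mem x.2
  rw [hx] at this
  exact absurd this (by decide)

theorem Hyp.one_lt : 1 < Nat.card M := (one_lt_card_iff_ne_bot _).2 H.ne

theorem Hyp.inverts {u x : G} (hu : Inv2 u) (huN : u ∈ normalizer (M : Set G)) (hx : x ∈ M) :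
    u * x * u = x⁻¹ := by
  refine InvAb.inverts_of_fixedPointFree hu.2 (fun g hg => ?_) (fun g hg e => ?_) hx
  · have := H.conj_mem huN hg
    rwa [hu.inv_eq] at this
  · by_contra h1
    have hc : Commute u g := by
      show u * g = g * u
      calc u * g = u * g * u * u := by rw [mul_assoc (u * g), hu.2, mul_one]
        _ = g * u := by rw [e]
    exact hu.1 (InvAb.odd_ne_inv2 (H.odd_of_commute hg h1 hc) hu.2)

theorem Hyp.z_conj {x : G} (hx : x ∈ M) : z * x * z = x⁻¹ := H.inverts H.hz H.hzN hx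

theorem Hyp.z_move {x : G} (hx : x ∈ M) : z * x = x⁻¹ * z := by
  rw [← H.z_conj hx, mul_assoc (z * x), H.hz.2, mul_one]

theorem Hyp.comm {x y : G} (hx : x ∈ M) (hy : y ∈ M) : Commute x y := by
  have h1 : (x * y)⁻¹ = x⁻¹ * y⁻¹ := by
    rw [← H.z_conj (mul_mem hx hy), ← H.z_conj hx, ← H.z_conj hy,
      show z * x * z * (z * y * z) = z * x * (z * z) * y * z by group, H.hz.2]
    group
  rw [← mul_inv_rev] at h1
  exact inv_injective h1

theorem Hyp.mul_z {x : G} (hx : x ∈ M) : Inv2 (x * z) := by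
  refine ⟨fun e => H.z_not_mem ?_, ?_⟩
  · rw [eq_inv_of_mul_eq_one_right e]
    exact inv_mem hx
  · rw [show x * z * (x * z) = x * (z * x * z) by group, H.z_conj hx, mul_inv_cancel]

/-- A square root in `M`. -/
theorem Hyp.exists_sqrt {x : G} (hx : x ∈ M) : ∃ y ∈ M, y * y = x := by
  obtain ⟨i, hi⟩ := H.odd_mem hx
  refine ⟨x ^ (i + 1), pow_mem hx _, ?_⟩
  rw [← pow_add, show i + 1 + (i + 1) = orderOf x + 1 by omega, pow_succ, pow_orderOf_eq_one,
    one_mul]

theorem Hyp.eq_one_of_sq {x : G} (hx : x ∈ M) (h : x * x = 1) : x = 1 :=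
  InvAb.odd_ne_inv2 (H.odd_mem hx) h

theorem Hyp.eq_one_of_K {x : G} (hx : x ∈ M) (hc : x ∈ Kz M z) : x = 1 := by
  refine H.eq_one_of_sq hx ?_
  have h1 := H.z_conj hx
  rw [show z * x * z = x by
    rw [← (mem_Kz.mp hc).2, mul_assoc, H.hz.2, mul_one]] at h1
  exact eq_inv_iff_mul_eq_one.mp h1

theorem Hyp.decomp {n : G} (hn : n ∈ normalizer (M : Set G)) :
    ∃ x ∈ M, ∃ c ∈ Kz M z, n = x * c := by
  have h1 : n ∈ ((Kz M z ⊔ M : Subgroup G) : Set G) := by
    rw [sup_comm, H.fac]; exact hn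
  rw [coe_mul_of_left_le_normalizer_right _ _ inf_le_left] at h1
  obtain ⟨c, hc, x, hx, rfl⟩ := h1
  exact ⟨c * x * c⁻¹, H.conj_mem (mem_Kz.mp hc).1 hx, c, hc, by group⟩

theorem Hyp.decomp_unique {x x' c c' : G} (hx : x ∈ M) (hx' : x' ∈ M) (hc : c ∈ Kz M z)
    (hc' : c' ∈ Kz M z) (e : x * c = x' * c') : x = x' ∧ c = c' := by
  have h1 : x'⁻¹ * x = c' * c⁻¹ := by
    rw [eq_mul_inv_iff_mul_eq, mul_assoc, e, inv_mul_cancel_left]
  have h2 : x'⁻¹ * x = 1 :=
    H.eq_one_of_K (mul_mem (inv_mem hx') hx) (h1 ▸ mul_mem hc' (inv_mem hc))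
  have h3 : x' = x := inv_mul_eq_one.mp h2
  exact ⟨h3.symm, mul_left_cancel (h3 ▸ e)⟩

/-- The involutions of the normaliser are the elements of `M z`. -/
theorem Hyp.invol_N {u : G} (hu : Inv2 u) (huN : u ∈ normalizer (M : Set G)) : u * z ∈ M := by
  obtain ⟨x, hx, c, hc, e⟩ := H.decomp (mul_mem huN H.hzN)
  obtain ⟨y, hy, hy1⟩ := H.exists_ne
  have hw : ∀ a ∈ M, Commute (u * z) a := fun a ha => by
    show u * z * a = a * (u * z)
    rw [mul_assoc u, H.z_move ha]
    calc u * (a⁻¹ * z) = u * a⁻¹ * (u * u) * z := by rw [hu.2]; group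
      _ = (u * a⁻¹ * u) * (u * z) := by group
      _ = a * (u * z) := by rw [H.inverts hu huN (inv_mem ha), inv_inv]
  have hcM : ∀ a ∈ M, Commute c a := fun a ha => by
    rw [show c = x⁻¹ * (u * z) by rw [e, inv_mul_cancel_left]]
    exact (H.comm (inv_mem hx) ha).mul_left (hw a ha)
  have hodd := H.odd_of_commute hy hy1 (hcM y hy)
  have h1 : z * (u * z) * z = (u * z)⁻¹ := by
    rw [mul_inv_rev, H.hz.inv_eq, hu.inv_eq,
      show z * (u * z) * z = z * u * (z * z) by group, H.hz.2, mul_one]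
  have h2 : z * (x * c) * z = x⁻¹ * c := by
    rw [← mul_assoc, H.z_move hx, mul_assoc x⁻¹, mul_assoc x⁻¹, mul_assoc z c z,
      (mem_Kz.mp hc).2, ← mul_assoc z z c, H.hz.2, one_mul]
  rw [e, h2, mul_inv_rev] at h1
  have h3 : c = c⁻¹ := by
    rw [((hcM x⁻¹ (inv_mem hx)).inv_left).eq] at h1
    exact mul_left_cancel h1
  have h4 := InvAb.odd_ne_inv2 hodd (eq_inv_iff_mul_eq_one.mp h3)
  rw [h4, mul_one] at e
  rwa [e]

/-- `z` is the only involution of `K`. -/
theorem Hyp.unique_K {c : G} (hc : c ∈ Kz M z) (hi : Inv2 c) : c = z := by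
  have h1 := H.invol_N hi (mem_Kz.mp hc).1
  have h2 := H.eq_one_of_K h1 (mul_mem hc (mem_Kz.mpr ⟨H.hzN, rfl⟩))
  rw [eq_inv_of_mul_eq_one_left h2, H.hz.inv_eq]

theorem Hyp.z_mem_K : z ∈ Kz M z := mem_Kz.mpr ⟨H.hzN, rfl⟩

theorem Hyp.conj_eq {y : G} (hy : y ∈ M) : y * z * y⁻¹ = y * y * z := by
  rw [mul_assoc, H.z_move (inv_mem hy), inv_inv, mul_assoc]

/-- The involutions of the normaliser are conjugates of `z`. -/
theorem Hyp.invol_N_conj {u : G} (hu : Inv2 u) (huN : u ∈ normalizer (M : Set G)) :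
    ∃ y ∈ M, y * z * y⁻¹ = u := by
  obtain ⟨y, hy, e⟩ := H.exists_sqrt (H.invol_N hu huN)
  exact ⟨y, hy, by rw [H.conj_eq hy, e, mul_assoc, H.hz.2, mul_one]⟩

theorem Hyp.mul_not_mem {g n : G} (hg : g ∉ normalizer (M : Set G))
    (hn : n ∈ normalizer (M : Set G)) : g * n ∉ normalizer (M : Set G) := fun h =>
  hg ((mul_mem_cancel_right hn).mp h)

/-- A coset of `M` outside the normaliser contains at most one involution. -/
theorem Hyp.coset_unique {u v : G} (hu : Inv2 u) (huN : u ∉ normalizer (M : Set G)) (hv : Inv2 v)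
    (h : u * v ∈ M) : u = v := by
  have h1 : u * v = 1 := by
    refine H.ti u huN _ h ?_
    rw [hu.inv_eq, show u * (u * v) * u = (u * u) * v * u by group, hu.2, one_mul]
    have := inv_mem h
    rwa [mul_inv_rev, hv.inv_eq, hu.inv_eq] at this
  rw [eq_inv_of_mul_eq_one_left h1, hv.inv_eq]

/-- Every coset of `M` outside the normaliser contains exactly one involution. -/
theorem Hyp.count :
    (∀ g : G, g ∉ normalizer (M : Set G) → ∃ u, Inv2 u ∧ g⁻¹ * u ∈ M) ∧
      Nat.card {u : G // Inv2 u} + Nat.card (Kz M z) = M.index + Nat.card M := by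
  classical
  let D := {u : G // Inv2 u ∧ u ∉ normalizer (M : Set G)}
  let O := {q : G ⧸ M // q.out ∉ normalizer (M : Set G)}
  let f : D → O := fun u => ⟨((u : G) : G ⧸ M), fun h => u.2.2 ((out_mem_iff M _).mp h)⟩
  have hf : Function.Injective f := fun u v e => by
    have h1 := QuotientGroup.eq.mp (congrArg Subtype.val e :)
    rw [u.2.1.inv_eq] at h1
    exact Subtype.ext (H.coset_unique u.2.1 u.2.2 v.2.1 h1)
  have hn : Nat.card {u : G // Inv2 u} = Nat.card M + Nat.card D := by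
    rw [← Nat.card_sum]
    refine (Nat.card_eq_of_bijective
      (Sum.elim (fun x : M => (⟨(x : G) * z, H.mul_z x.2⟩ : {u : G // Inv2 u}))
        (fun u : D => ⟨u, u.2.1⟩)) ⟨?_, ?_⟩).symm
    · rintro (x | u) (y | v) e <;> have e' := congrArg Subtype.val e <;>
        simp only [Sum.elim_inl, Sum.elim_inr] at e'
      · rw [Subtype.ext (mul_right_cancel e')]
      · exact absurd (mul_mem (le_normalizer x.2) H.hzN) (e' ▸ v.2.2)
      · exact absurd (mul_mem (le_normalizer y.2) H.hzN) (e' ▸ u.2.2)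
      · rw [Subtype.ext e']
    · rintro ⟨u, hu⟩
      by_cases huN : u ∈ normalizer (M : Set G)
      · refine ⟨.inl ⟨u * z, H.invol_N hu huN⟩, Subtype.ext ?_⟩
        show u * z * z = u
        rw [mul_assoc, H.hz.2, mul_one]
      · exact ⟨.inr ⟨u, hu, huN⟩, rfl⟩
  have hidx : M.index = Nat.card (Kz M z) + Nat.card O := by
    rw [Subgroup.index_eq_card, ← Nat.card_sum]
    refine (Nat.card_eq_of_bijective
      (Sum.elim (fun c : Kz M z => ((c : G) : G ⧸ M)) (fun q : O => q.1)) ⟨?_, ?_⟩).symm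
    · rintro (c | q) (d | r) e <;> simp only [Sum.elim_inl, Sum.elim_inr] at e
      · have h1 := H.eq_one_of_K (QuotientGroup.eq.mp e) (mul_mem (inv_mem c.2) d.2)
        rw [Subtype.ext (inv_mul_eq_one.mp h1)]
      · exact absurd ((out_mem_iff M _).mpr (mem_Kz.mp c.2).1) (e.symm ▸ r.2)
      · exact absurd ((out_mem_iff M _).mpr (mem_Kz.mp d.2).1) (e ▸ q.2)
      · rw [Subtype.ext e]
    · intro q
      by_cases hq : q.out ∈ normalizer (M : Set G)
      · obtain ⟨x, hx, c, hc, e⟩ := H.decomp hq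
        refine ⟨.inl ⟨c, hc⟩, ?_⟩
        show ((c : G) : G ⧸ M) = q
        rw [← QuotientGroup.out_eq' q, QuotientGroup.eq, e, ← mul_assoc]
        have := H.conj_mem (inv_mem (mem_Kz.mp hc).1) hx
        rwa [inv_inv] at this
      · exact ⟨.inr ⟨q, hq⟩, rfl⟩
  have hex : ∀ g : G, g ∉ normalizer (M : Set G) → ∃ u, Inv2 u ∧ g⁻¹ * u ∈ M := by
    intro g hg
    by_contra hno
    simp only [not_exists, not_and] at hno
    let ψ : M → O := fun x => ⟨(((x : G) * g : G) : G ⧸ M), fun h =>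
      hg ((mul_mem_cancel_left (le_normalizer x.2)).mp ((out_mem_iff M _).mp h))⟩
    have hψ : Function.Injective (Sum.elim ψ f) := by
      refine Function.Injective.sumElim (fun x y e => ?_) hf (fun x u e => ?_)
      · have h1 := QuotientGroup.eq.mp (congrArg Subtype.val e :)
        refine Subtype.ext (inv_mul_eq_one.mp (H.ti g hg _ (mul_mem (inv_mem x.2) y.2) ?_))
        rwa [mul_inv_rev, ← mul_assoc, mul_assoc g⁻¹ (x : G)⁻¹ (y : G)] at h1
      · have h1 := QuotientGroup.eq.mp (congrArg Subtype.val e :)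
        refine hno ((x : G)⁻¹ * u * x) ?_ ?_
        · have := u.2.1.conj (x : G)⁻¹
          rwa [inv_inv] at this
        · have h2 := mul_mem h1 x.2
          rwa [mul_inv_rev, mul_assoc g⁻¹, mul_assoc g⁻¹] at h2
    have h1 := Nat.card_le_card_of_injective _ hψ
    rw [Nat.card_sum] at h1
    have := H.many
    omega
  have hs : Function.Surjective f := by
    rintro ⟨q, hq⟩
    obtain ⟨u, hu, hu'⟩ := hex q.out hq
    refine ⟨⟨u, hu, fun h => hq ?_⟩, Subtype.ext ?_⟩
    · have h2 := mul_mem h (inv_mem (le_normalizer hu'))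
      rwa [mul_inv_rev, inv_inv, mul_inv_cancel_left] at h2
    · show ((u : G) : G ⧸ M) = q
      rw [← QuotientGroup.out_eq' q]
      exact (QuotientGroup.eq.mpr hu').symm
  refine ⟨hex, ?_⟩
  have := Nat.card_eq_of_bijective f ⟨hf, hs⟩
  omega

theorem Hyp.card_K_lt : Nat.card (Kz M z) < Nat.card M := by
  have := H.count.2
  have := H.many
  omega

theorem Hyp.card_K_even : 2 ∣ Nat.card (Kz M z) := by
  have h := orderOf_dvd_natCard (⟨z, H.z_mem_K⟩ : Kz M z)
  rwa [Subgroup.orderOf_mk, InvAb.inv2_orderOf H.hz] at h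

/-- An element outside the normaliser is in `M g' M` for an involution `g'` commuting with `z`. -/
theorem Hyp.main_dec {g : G} (hg : g ∉ normalizer (M : Set G)) :
    ∃ y ∈ M, ∃ g' : G, g' * z = z * g' ∧ g' ∉ normalizer (M : Set G) ∧ Inv2 g' ∧
      ∃ x ∈ M, g = y * g' * x := by
  obtain ⟨u, hu, hgu⟩ := H.count.1 g hg
  have huN : u ∉ normalizer (M : Set G) := fun h => hg (by
    have h2 := mul_mem h (inv_mem (le_normalizer hgu))
    rwa [mul_inv_rev, inv_inv, mul_inv_cancel_left] at h2)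
  obtain ⟨v, hv, hv'⟩ := H.count.1 (u * z) (H.mul_not_mem huN H.hzN)
  set a := (u * z)⁻¹ * v with ha
  have hv2 : v = u * (z * a) := by rw [ha]; group
  have hw : Inv2 (z * a) := by
    rw [H.z_move hv']
    exact H.mul_z (inv_mem hv')
  have hcomm : z * a * u = u * (z * a) := by
    have h1 := hv.inv_eq
    rw [hv2, mul_inv_rev, hw.inv_eq, hu.inv_eq] at h1
    exact h1
  obtain ⟨y, hy, hy2⟩ := H.exists_sqrt (inv_mem hv')
  have hyz : y * z * y⁻¹ = z * a := by rw [H.conj_eq hy, hy2, H.z_move hv']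
  refine ⟨y, hy, y⁻¹ * u * y, ?_, fun h => huN ?_, ?_, y⁻¹ * (g⁻¹ * u)⁻¹,
    mul_mem (inv_mem hy) (inv_mem hgu), by group⟩
  · calc y⁻¹ * u * y * z = y⁻¹ * (u * (y * z * y⁻¹)) * y := by group
      _ = y⁻¹ * (z * a * u) * y := by rw [hyz, hcomm]
      _ = y⁻¹ * (y * z * y⁻¹ * u) * y := by rw [hyz]
      _ = z * (y⁻¹ * u * y) := by group
  · have h2 := mul_mem (mul_mem (le_normalizer hy) h) (inv_mem (le_normalizer hy))
    rwa [show y * (y⁻¹ * u * y) * y⁻¹ = u by group] at h2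
  · have := hu.conj y⁻¹
    rwa [inv_inv] at this

/-- The elements outside the normaliser commuting with `z` are involutions. -/
theorem Hyp.Cz_invol {g : G} (hgz : g * z = z * g) (hg : g ∉ normalizer (M : Set G)) : Inv2 g := by
  obtain ⟨u, hu, hgu⟩ := H.count.1 g hg
  set a := g⁻¹ * u with ha
  have hu2 : u = g * a := by rw [ha, mul_inv_cancel_left]
  have huN : u ∉ normalizer (M : Set G) := hu2 ▸ H.mul_not_mem hg (le_normalizer hgu)
  have h1 : z * u * z = g * a⁻¹ := by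
    rw [hu2, ← mul_assoc z, ← hgz, mul_assoc, mul_assoc, ← mul_assoc z a z, H.z_conj hgu]
  have h2 : Inv2 (g * a⁻¹) := by
    rw [← h1]
    have := hu.conj z
    rwa [H.hz.inv_eq] at this
  have h3 : u = g * a⁻¹ := by
    refine H.coset_unique hu huN h2 ?_
    rw [show u * (g * a⁻¹) = u⁻¹ * (g * a⁻¹) by rw [hu.inv_eq], hu2, mul_inv_rev, mul_assoc,
      inv_mul_cancel_left]
    exact mul_mem (inv_mem hgu) (inv_mem hgu)
  have h4 : a = a⁻¹ := mul_left_cancel (hu2.symm.trans h3)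
  have h5 : a = 1 := H.eq_one_of_sq hgu (eq_inv_iff_mul_eq_one.mp h4)
  rw [h5, mul_one] at hu2
  rwa [← hu2]

theorem Hyp.exists_s : ∃ s : G, s * z = z * s ∧ s ∉ normalizer (M : Set G) ∧ Inv2 s := by
  obtain ⟨g, hg⟩ := H.out
  obtain ⟨y, -, s, h1, h2, h3, -⟩ := H.main_dec hg
  exact ⟨s, h1, h2, h3⟩

/-- The involutions outside the normaliser commuting with `z` invert `K`. -/
theorem Hyp.inverts_K {s c : G} (hsz : s * z = z * s) (hs : s ∉ normalizer (M : Set G))
    (hc : c ∈ Kz M z) : s * c * s = c⁻¹ := by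
  obtain ⟨hcN, hcz⟩ := mem_Kz.mp hc
  have h1 : Inv2 (s * c) := H.Cz_invol
    (by rw [mul_assoc, hcz, ← mul_assoc, hsz, mul_assoc]) (H.mul_not_mem hs hcN)
  exact eq_inv_of_mul_eq_one_left (by rw [← h1.2]; group)

theorem Hyp.comm_K {c d : G} (hc : c ∈ Kz M z) (hd : d ∈ Kz M z) : c * d = d * c := by
  obtain ⟨s, hsz, hsN, hs⟩ := H.exists_s
  have h1 : (c * d)⁻¹ = c⁻¹ * d⁻¹ := by
    rw [← H.inverts_K hsz hsN (mul_mem hc hd), ← H.inverts_K hsz hsN hc,
      ← H.inverts_K hsz hsN hd,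
      show s * c * s * (s * d * s) = s * c * (s * s) * d * s by group, hs.2]
    group
  rw [← mul_inv_rev] at h1
  exact inv_injective h1

theorem Hyp.card_N : Nat.card ↥(normalizer (M : Set G)) = Nat.card M * Nat.card (Kz M z) := by
  rw [← Nat.card_prod]
  refine (Nat.card_eq_of_bijective (fun p : M × Kz M z =>
    (⟨(p.1 : G) * (p.2 : G), mul_mem (le_normalizer p.1.2) (mem_Kz.mp p.2.2).1⟩ :
      normalizer (M : Set G))) ⟨fun p q e => ?_, fun n => ?_⟩).symm
  · obtain ⟨h1, h2⟩ := H.decomp_unique p.1.2 q.1.2 p.2.2 q.2.2 (congrArg Subtype.val e)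
    exact Prod.ext (Subtype.ext h1) (Subtype.ext h2)
  · obtain ⟨x, hx, c, hc, e⟩ := H.decomp n.2
    exact ⟨(⟨x, hx⟩, ⟨c, hc⟩), Subtype.ext e.symm⟩

/-- The elements outside the normaliser commuting with `z`. -/
abbrev Pz (M : Subgroup G) (z : G) := {g : G // g * z = z * g ∧ g ∉ normalizer (M : Set G)}

theorem Hyp.card_G : Nat.card G =
    Nat.card M * Nat.card (Kz M z) + Nat.card M * (Nat.card (Pz M z) * Nat.card M) := by
  classical
  rw [← H.card_N, ← Nat.card_prod, ← Nat.card_prod,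
    Nat.card_congr (Equiv.sumCompl fun g : G => g ∈ normalizer (M : Set G)).symm, Nat.card_sum]
  congr 1
  refine (Nat.card_eq_of_bijective (fun p : M × Pz M z × M =>
    (⟨(p.1 : G) * (p.2.1 : G) * (p.2.2 : G), fun h => p.2.1.2.2
      ((mul_mem_cancel_left (le_normalizer p.1.2)).mp
        ((mul_mem_cancel_right (le_normalizer p.2.2.2)).mp h))⟩ :
      {g : G // g ∉ normalizer (M : Set G)})) ⟨?_, ?_⟩).symm
  · rintro ⟨y, ⟨g, hgz, hg⟩, x⟩ ⟨y', ⟨g', hgz', hg'⟩, x'⟩ e
    have e' : (y : G) * g * x = y' * g' * x' := congrArg Subtype.val e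
    set a := (y' : G)⁻¹ * y with ha
    set b := (x' : G) * (x : G)⁻¹ with hb
    have haM : a ∈ M := mul_mem (inv_mem y'.2) y.2
    have hbM : b ∈ M := mul_mem x'.2 (inv_mem x.2)
    have h1 : a * g = g' * b := by
      calc a * g = (y' : G)⁻¹ * (y * g * x) * (x : G)⁻¹ := by rw [ha]; group
        _ = g' * b := by rw [e', hb]; group
    have h2 : a⁻¹ * g = g' * b⁻¹ := by
      refine mul_right_cancel (b := z) ?_
      calc a⁻¹ * g * z = a⁻¹ * z * g := by rw [mul_assoc, hgz, ← mul_assoc]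
        _ = z * (a * g) := by rw [← H.z_move haM, mul_assoc]
        _ = z * g' * b := by rw [h1, ← mul_assoc]
        _ = g' * (z * b) := by rw [← hgz', mul_assoc]
        _ = g' * b⁻¹ * z := by rw [H.z_move hbM, ← mul_assoc]
    have h3 : g'⁻¹ * (a * a) * g' = b * b := by
      calc g'⁻¹ * (a * a) * g' = g'⁻¹ * (a * a) * (g' * b⁻¹) * b := by group
        _ = g'⁻¹ * (a * g) * b := by rw [← h2]; group
        _ = b * b := by rw [h1]; group
    have h4 := H.ti g' hg' _ (mul_mem haM haM) (h3 ▸ mul_mem hbM hbM)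
    have h5 : a = 1 := H.eq_one_of_sq haM h4
    rw [h4, mul_one, inv_mul_cancel] at h3
    have h6 : b = 1 := H.eq_one_of_sq hbM h3.symm
    have hy : y' = y := Subtype.ext (inv_mul_eq_one.mp h5)
    have hx : x' = x := Subtype.ext (mul_inv_eq_one.mp h6)
    rw [h5, h6, one_mul, mul_one] at h1
    subst hy hx h1
    rfl
  · rintro ⟨g, hg⟩
    obtain ⟨y, hy, g', h1, h2, -, x, hx, e⟩ := H.main_dec hg
    exact ⟨(⟨y, hy⟩, ⟨g', h1, h2⟩, ⟨x, hx⟩), Subtype.ext e.symm⟩

omit H in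
theorem card_Cz :
    Nat.card ↥(centralizer ({z} : Set G)) = Nat.card (Kz M z) + Nat.card (Pz M z) := by
  classical
  rw [← Nat.card_sum]
  refine (Nat.card_eq_of_bijective
    (Sum.elim (fun c : Kz M z => (⟨c, c.2.2⟩ : centralizer ({z} : Set G)))
      (fun p : Pz M z => ⟨p, mem_centralizer_singleton_iff.mpr p.2.1⟩)) ⟨?_, ?_⟩).symm
  · rintro (c | p) (d | q) e <;> have e' := congrArg Subtype.val e <;>
      simp only [Sum.elim_inl, Sum.elim_inr] at e'
    · rw [Subtype.ext e']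
    · exact absurd c.2.1 (e' ▸ q.2.2)
    · exact absurd d.2.1 (e' ▸ p.2.2)
    · rw [Subtype.ext e']
  · rintro ⟨g, hg⟩
    by_cases h : g ∈ normalizer (M : Set G)
    · exact ⟨.inl ⟨g, h, hg⟩, rfl⟩
    · exact ⟨.inr ⟨g, mem_centralizer_singleton_iff.mp hg, h⟩, rfl⟩

end Cfsg.Agent.BenderTI
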